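import Cfsg.Agent.H440.TwoGen.Cox
import Cfsg.Prelude.Def_Spor_Fi24

/-!
# `Fi₂₄'` is 2-generated (helper440)
-/

set_option autoImplicit false

namespace Cfsg.Agent.H440.TwoGen.Fi24

open Cfsg.Spor Equiv Equiv.Perm
open Cfsg.Agent.CharactersDeep.SchurAltPerm Cfsg.Agent.H440.TwoGen.Alt Cfsg.Agent.H440.TwoGen.Path

/-- a subgroup containing all `g τ` for the generators `g` contains the commutator subgroup -/
theorem commutator_le_of {P : Type*} [Group P] (s : Set P) (hs : Subgroup.closure s = ⊤) (S : Subgroup P) {j : P}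
    (hj : j * j = 1) (hinv : ∀ g ∈ s, g * g = 1) (h : ∀ g ∈ s, g * j ∈ S) : commutator P ≤ S := by
  have hT : ∀ w : P, w ∈ S ∨ w * j ∈ S := by
    intro w
    have hw : w ∈ Subgroup.closure s := by rw [hs]; trivial
    have hstep : ∀ w : P, (w ∈ S ∨ w * j ∈ S) → ∀ g ∈ s, (w * g ∈ S ∨ w * g * j ∈ S) := by
      intro w hw g hg
      rcases hw with hw | hw
      · right
        rw [mul_assoc]
        exact S.mul_mem hw (h g hg)
      · left
        have h1 : w * g = (w * j) * (g * j)⁻¹ := by
          rw [mul_inv_rev, inv_eq_of_mul_eq_one_left hj, inv_eq_of_mul_eq_one_left (hinv g hg)]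
          calc w * g = w * (j * j) * g := by rw [hj, mul_one]
            _ = w * j * (j * g) := by simp only [mul_assoc]
        rw [h1]
        exact S.mul_mem hw (S.inv_mem (h g hg))
    induction hw using Subgroup.closure_induction_right with
    | one => exact Or.inl S.one_mem
    | mul_right x _ y hy ih => exact hstep x ih y hy
    | mul_inv_cancel x _ y hy ih =>
      rw [inv_eq_of_mul_eq_one_left (hinv y hy)]
      exact hstep x ih y hy
  have hnorm : S.Normal := by
    refine ⟨fun s hs w => ?_⟩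
    have hjs : ∀ s ∈ S, j * s * j ∈ S := by
      intro s hs
      rcases hT (j * s) with h1 | h1
      · have h2 : j ∈ S := by
          have := S.mul_mem h1 (S.inv_mem hs)
          rwa [mul_inv_cancel_right] at this
        exact S.mul_mem h1 h2
      · exact h1
    rcases hT w with h1 | h1
    · exact S.mul_mem (S.mul_mem h1 hs) (S.inv_mem h1)
    · have h2 : w * s * w⁻¹ = (w * j) * (j * s * j) * (w * j)⁻¹ := by
        rw [mul_inv_rev, inv_eq_of_mul_eq_one_left hj]
        calc w * s * w⁻¹ = w * (j * j) * s * (j * j) * w⁻¹ := by rw [hj, mul_one, mul_one]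
          _ = (w * j) * (j * s * j) * (j * w⁻¹) := by simp only [mul_assoc]
      rw [h2]
      exact S.mul_mem (S.mul_mem h1 (hjs s hs)) (S.inv_mem h1)
  rw [← Subgroup.Normal.quotient_commutative_iff_commutator_le]
  have hq : ∀ a : P ⧸ S, a = 1 ∨ a = (j : P ⧸ S) := by
    intro a
    obtain ⟨w, rfl⟩ := QuotientGroup.mk_surjective a
    rcases hT w with h1 | h1
    · left; exact (QuotientGroup.eq_one_iff w).2 h1
    · right
      have h2 : ((w * j : P) : P ⧸ S) = 1 := (QuotientGroup.eq_one_iff _).2 h1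
      rw [QuotientGroup.mk_mul] at h2
      have h3 : (j : P ⧸ S) * (j : P ⧸ S) = 1 := by rw [← QuotientGroup.mk_mul, hj]; rfl
      rw [eq_inv_of_mul_eq_one_left h2, inv_eq_of_mul_eq_one_left h3]
  refine ⟨⟨fun a b => ?_⟩⟩
  rcases hq a with rfl | rfl <;> rcases hq b with rfl | rfl <;> simp

/-- abbreviation for the generators -/
abbrev γ (x : Fi24.Gen) : Fi24 := Cox.g Fi24.edges Fi24.extra x

/-- path -/
def pth (i : ℕ) : Fi24.Gen := [Fi24.Gen.l, .k, .a, .b, .c, .d, .e, .f, .g, .j].getD i .l

theorem node (x : Fi24.Gen) : x ∈ coxNodes Fi24.edges := by cases x <;> decide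

theorem sq (x : Fi24.Gen) : γ x * γ x = 1 := Cox.sq (node x)

/-- all generators have the same image in the abelianization -/
theorem ab_eq (x : Fi24.Gen) : Abelianization.of (γ x) = Abelianization.of (γ Fi24.Gen.d) := by
  have hadj : ∀ x y : Fi24.Gen, coxLabel Fi24.edges x y = 3 → Abelianization.of (γ x) = Abelianization.of (γ y) := by
    intro x y h
    have h1 := congrArg (Abelianization.of (G := Fi24)) (Cox.braid (extra := Fi24.extra) (node x) (node y) h)
    simp only [map_mul] at h1
    have h2 : ∀ a b : Abelianization Fi24, a * b * a = b * a * b → a = b := by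
      intro a b h
      have h3 : a * b * a = a * b * b := by rw [h, mul_comm b a]
      exact mul_left_cancel h3
    exact h2 _ _ h1
  have hc : Abelianization.of (γ .c) = Abelianization.of (γ Fi24.Gen.d) := hadj _ _ (by decide)
  have hb : Abelianization.of (γ .b) = Abelianization.of (γ Fi24.Gen.d) := (hadj _ _ (by decide)).trans hc
  have ha : Abelianization.of (γ .a) = Abelianization.of (γ Fi24.Gen.d) := (hadj _ _ (by decide)).trans hb
  have hk : Abelianization.of (γ .k) = Abelianization.of (γ Fi24.Gen.d) := (hadj _ _ (by decide)).trans ha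
  have hl : Abelianization.of (γ .l) = Abelianization.of (γ Fi24.Gen.d) := (hadj _ _ (by decide)).trans hk
  have he : Abelianization.of (γ .e) = Abelianization.of (γ Fi24.Gen.d) := hadj _ _ (by decide)
  have hf : Abelianization.of (γ .f) = Abelianization.of (γ Fi24.Gen.d) := (hadj _ _ (by decide)).trans he
  have hg : Abelianization.of (γ .g) = Abelianization.of (γ Fi24.Gen.d) := (hadj _ _ (by decide)).trans hf
  have hj : Abelianization.of (γ .j) = Abelianization.of (γ Fi24.Gen.d) := (hadj _ _ (by decide)).trans hg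
  have hh : Abelianization.of (γ .h) = Abelianization.of (γ Fi24.Gen.d) := hadj _ _ (by decide)
  have hi : Abelianization.of (γ .i) = Abelianization.of (γ Fi24.Gen.d) := (hadj _ _ (by decide)).trans hh
  cases x <;> first | assumption | rfl

theorem mem_commutator {g : Fi24} (h : Abelianization.of g = 1) : g ∈ commutator Fi24 := by
  have := Abelianization.ker_of Fi24
  rw [← this]
  exact h

theorem main : ∃ X Y : Fi24, X ∈ commutator Fi24 ∧ Y ∈ commutator Fi24 ∧
    commutator Fi24 ≤ Subgroup.closure {X, Y} := by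
  obtain ⟨φ, hφ⟩ := exists_hom 10 (fun i => γ (pth i)) (fun i _ => sq _)
    (fun i hi => Cox.braid (node _) (node _) ((by decide : ∀ i < 9, coxLabel Fi24.edges (pth i) (pth (i + 1)) = 3)
      i (by omega)))
    (fun i j hij hj => Cox.comm (node _) (node _)
      ((by decide : ∀ i < 10, ∀ j < 10, i + 1 < j → coxLabel Fi24.edges (pth i) (pth j) = 2) i (by omega) j hj hij))
  have hφ' : ∀ i (h : i < 10), φ (swap (⟨i, by omega⟩ : Fin 11) ⟨i + 1, by omega⟩) = γ (pth i) :=
    fun i h => hφ ⟨i, h⟩
  -- the permutations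
  set c : Perm (Fin 11) := finRotate 11 with hc
  set z : Perm (Fin 11) := x 8 9 10 with hz
  have hz' : z = swap 8 9 * swap 9 10 := by rw [hz]; decide
  have ha9 : c * z⁻¹ = swap 0 1 * swap 1 2 * swap 2 3 * swap 3 4 * swap 4 5 * swap 5 6 * swap 6 7 * swap 7 8 := by
    rw [hz, hc]; decide +kernel
  have h9 : (c * z⁻¹) ^ 9 = 1 := by rw [hz, hc]; decide +kernel
  have hz3 : z ^ 3 = 1 := by rw [hz]; decide +kernel
  have hcomm : (c * z⁻¹) * swap 9 10 = swap 9 10 * (c * z⁻¹) := by rw [hz, hc]; decide +kernel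
  have hcomm2 : z * swap 0 1 = swap 0 1 * z := by rw [hz]; decide +kernel
  have e9 : φ (swap 9 10) = γ .j := hφ' 9 (by norm_num)
  have e8 : φ (swap 8 9) = γ .g := hφ' 8 (by norm_num)
  have e0 : φ (swap 0 1) = γ .l := hφ' 0 (by norm_num)
  have hi : ∀ g, φ g * γ .i = γ .i * φ g := commute_range φ (fun m => by
    rw [hφ m]
    exact Cox.comm (node _) (node _) ((by decide : ∀ i < 10, coxLabel Fi24.edges (pth i) .i = 2) m m.isLt))
  have hzh : φ z * γ .h = γ .h * φ z := by
    have k1 : γ .j * γ .h = γ .h * γ .j := Cox.comm (node _) (node _) (by decide)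
    have k2 : γ .g * γ .h = γ .h * γ .g := Cox.comm (node _) (node _) (by decide)
    rw [hz', map_mul, e8, e9, mul_assoc, k1, ← mul_assoc, k2, mul_assoc]
  have hlh : γ .l * γ .h = γ .h * γ .l := Cox.comm (node _) (node _) (by decide)
  refine ⟨φ (c * z⁻¹) * (γ .i * γ .j), φ z * (γ .l * γ .h), ?_, ?_, ?_⟩
  · apply mem_commutator
    have t2 : Abelianization.of (γ Fi24.Gen.d) * Abelianization.of (γ Fi24.Gen.d) = 1 := by
      rw [← map_mul, sq, map_one]
    rw [ha9]
    simp only [map_mul]
    rw [show φ (swap 0 1) = γ (pth 0) from hφ' 0 (by norm_num), show φ (swap 1 2) = γ (pth 1) from hφ' 1 (by norm_num),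
      show φ (swap 2 3) = γ (pth 2) from hφ' 2 (by norm_num), show φ (swap 3 4) = γ (pth 3) from hφ' 3 (by norm_num),
      show φ (swap 4 5) = γ (pth 4) from hφ' 4 (by norm_num), show φ (swap 5 6) = γ (pth 5) from hφ' 5 (by norm_num),
      show φ (swap 6 7) = γ (pth 6) from hφ' 6 (by norm_num), show φ (swap 7 8) = γ (pth 7) from hφ' 7 (by norm_num)]
    simp only [ab_eq]
    simp only [mul_assoc, t2, mul_one]
  · apply mem_commutator
    have t2 : Abelianization.of (γ Fi24.Gen.d) * Abelianization.of (γ Fi24.Gen.d) = 1 := by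
      rw [← map_mul, sq, map_one]
    rw [hz']
    simp only [map_mul]
    rw [e8, e9]
    simp only [ab_eq]
    simp only [mul_assoc, t2, mul_one]
  · set S := Subgroup.closure ({φ (c * z⁻¹) * (γ .i * γ .j), φ z * (γ .l * γ .h)} : Set Fi24) with hS
    have m1 : φ (c * z⁻¹) * (γ .i * γ .j) ∈ S := Subgroup.subset_closure (Set.mem_insert _ _)
    have m2 : φ z * (γ .l * γ .h) ∈ S := Subgroup.subset_closure (Set.mem_insert_of_mem _ (Set.mem_singleton _))
    have hij : γ .i * γ .j = γ .j * γ .i := Cox.comm (node _) (node _) (by decide)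
    have c1 : φ (c * z⁻¹) * (γ .i * γ .j) = (γ .i * γ .j) * φ (c * z⁻¹) := by
      rw [← mul_assoc, hi, mul_assoc, ← e9, ← map_mul, hcomm, map_mul, mul_assoc]
    have c2 : φ z * (γ .l * γ .h) = (γ .l * γ .h) * φ z := by
      rw [← mul_assoc, ← e0, ← map_mul, hcomm2, map_mul, mul_assoc, hzh, mul_assoc]
    have o1 : (γ .i * γ .j) ^ 2 = 1 := by
      rw [pow_two, mul_assoc, ← mul_assoc (γ .j), ← hij, mul_assoc, sq, mul_one, sq]
    have o2 : (γ .l * γ .h) ^ 2 = 1 := by
      rw [pow_two, mul_assoc, ← mul_assoc (γ .h), ← hlh, mul_assoc, sq, mul_one, sq]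
    have o3 : φ (c * z⁻¹) ^ 9 = 1 := by rw [← map_pow, h9, map_one]
    have o4 : φ z ^ 3 = 1 := by rw [← map_pow, hz3, map_one]
    have s1 : φ (c * z⁻¹) ∈ S := left_mem_of_pow S c1 o3 o1 (by decide) m1
    have s2 : γ .i * γ .j ∈ S := right_mem_of_pow S c1 o3 o1 (by decide) m1
    have s3 : φ z ∈ S := left_mem_of_pow S c2 o4 o2 (by decide) m2
    have s4 : γ .l * γ .h ∈ S := right_mem_of_pow S c2 o4 o2 (by decide) m2
    have hcS : c ∈ S.comap φ := by
      have h1 : φ (c * z⁻¹) * φ z ∈ S := S.mul_mem s1 s3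
      rw [← map_mul, inv_mul_cancel_right] at h1
      exact h1
    have hxS : x (⟨0, by omega⟩ : Fin 11) ⟨1, by omega⟩ ⟨2, by omega⟩ ∈ S.comap φ := by
      have h1 : (c ^ 8)⁻¹ * z * c ^ 8 ∈ S.comap φ :=
        Subgroup.mul_mem _ (Subgroup.mul_mem _ (Subgroup.inv_mem _ (Subgroup.pow_mem _ hcS 8)) s3)
          (Subgroup.pow_mem _ hcS 8)
      have h2 : x (⟨0, by omega⟩ : Fin 11) ⟨1, by omega⟩ ⟨2, by omega⟩ = (c ^ 8)⁻¹ * z * c ^ 8 := by
        rw [hz, hc]; decide +kernel
      rw [h2]; exact h1
    have hA : alternatingGroup (Fin 11) ≤ S.comap φ :=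
      odd_case (by norm_num) _ c (fun i h => finRotate_of_lt (by omega)) hcS hxS
    have hp : ∀ i (_ : i < 10), γ (pth i) * γ .j ∈ S := by
      intro i hi
      rw [← hφ' i hi, ← e9, ← map_mul]
      refine hA (mem_alternatingGroup.2 ?_)
      rw [Perm.sign_mul, sign_swap (ne_mk _ _ (by omega)), sign_swap (by decide)]
      decide
    refine commutator_le_of (Set.range fun x : Fi24.Gen => γ x) (PresentedGroup.closure_range_of _) S (sq .j) ?_ ?_
    · rintro _ ⟨x, rfl⟩; exact sq x
    · rintro _ ⟨x, rfl⟩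
      cases x
      case h =>
        have h1 := S.mul_mem (S.inv_mem s4) (hp 0 (by norm_num))
        have h2 : (γ .l * γ .h)⁻¹ * (γ (pth 0) * γ .j) = γ .h * γ .j := by
          rw [mul_inv_rev, inv_eq_of_mul_eq_one_left (sq .l), inv_eq_of_mul_eq_one_left (sq .h)]
          show γ .h * γ .l * (γ .l * γ .j) = _
          rw [mul_assoc, ← mul_assoc (γ .l), sq, one_mul]
        rw [h2] at h1
        exact h1
      case i => exact s2
      case l => exact hp 0 (by norm_num)
      case k => exact hp 1 (by norm_num)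
      case a => exact hp 2 (by norm_num)
      case b => exact hp 3 (by norm_num)
      case c => exact hp 4 (by norm_num)
      case d => exact hp 5 (by norm_num)
      case e => exact hp 6 (by norm_num)
      case f => exact hp 7 (by norm_num)
      case g => exact hp 8 (by norm_num)
      case j => exact hp 9 (by norm_num)

/-- **`Fi₂₄'`** -/
theorem twoGen_fi24 {G : Type*} [Group G] (h : Cfsg.Spor.IsoFi24' G) : TwoGen G := by
  obtain ⟨e⟩ := h
  have h1 : TwoGen ↥(commutator Fi24) := Cfsg.Agent.H136.TwoGen.of_ambient _ main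
  exact h1.of_equiv e.symm

end Cfsg.Agent.H440.TwoGen.Fi24
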