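import Cfsg.Agent.H440.TwoGen.Cox
import Cfsg.Prelude.Def_Spor_HN
import Cfsg.Prelude.Def_Spor_He

/-!
# `HN` and `He` are 2-generated (helper440)

* `HN = ⟨y t, x z⟩`: `y`, `t` commute with coprime orders, and `z t z ∈ ⟨t, x z⟩`, `z = t (z t z) t`;
* `He = ⟨(a b)(d f), (b c)(f g)⟩`.
-/

set_option autoImplicit false

namespace Cfsg.Agent.H440.TwoGen.HNHe

open Cfsg.Spor

/-- a relator of a presented group is trivial -/
theorem extra_rel {α : Type*} [DecidableEq α] {edges : List (α × ℕ × α)} {extra : List (FreeGroup α)}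
    {r : FreeGroup α} (hr : r ∈ extra) :
    (PresentedGroup.mk (Cfsg.Spor.coxRelators edges ∪ {r | r ∈ extra}) r) = 1 :=
  PresentedGroup.one_of_mem (Or.inr hr)

/-! ## `HN` -/

theorem hn_abs {G : Type*} [Group G] {x y z t : G} (hy : y ^ 6 = 1) (ht : t ^ 5 = 1) (hty : t⁻¹ * y⁻¹ * t * y = 1)
    (hz : z ^ 2 = 1) (hxt : (x⁻¹ * t * x) * (t ^ 2) = 1) (hzt : (z * t) ^ 3 = 1) (S : Subgroup G)
    (h1 : y * t ∈ S) (h2 : x * z ∈ S) : x ∈ S ∧ y ∈ S ∧ z ∈ S ∧ t ∈ S := by
  have hc : y * t = t * y := by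
    have h3 : t * y = (y * t) * (t⁻¹ * y⁻¹ * t * y) := by group
    rw [h3, hty, mul_one]
  have hyS : y ∈ S := left_mem_of_pow S hc hy ht (by decide) h1
  have htS : t ∈ S := right_mem_of_pow S hc hy ht (by decide) h1
  have hzz : z * z = 1 := by rw [← pow_two]; exact hz
  have hzi : z⁻¹ = z := inv_eq_of_mul_eq_one_left hzz
  -- `z t⁻² z ∈ S`
  have h3 : z * (t ^ 2)⁻¹ * z ∈ S := by
    have h4 : (x * z)⁻¹ * t * (x * z) = z * (t ^ 2)⁻¹ * z := by
      have h5 : x⁻¹ * t * x = (t ^ 2)⁻¹ := eq_inv_of_mul_eq_one_left hxt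
      calc (x * z)⁻¹ * t * (x * z) = z⁻¹ * (x⁻¹ * t * x) * z := by group
        _ = z * (t ^ 2)⁻¹ * z := by rw [h5, hzi]
    rw [← h4]
    exact S.mul_mem (S.mul_mem (S.inv_mem h2) htS) h2
  have h4 : z * t * z ∈ S := by
    have h5 : (z * (t ^ 2)⁻¹ * z) ^ 2 = z * t * z := by
      have h6 : (t ^ 2)⁻¹ * (t ^ 2)⁻¹ = t := by
        have h7 : t * (t ^ 2 * t ^ 2) = 1 := by
          rw [← ht]; group
        rw [← mul_inv_rev]
        exact (eq_inv_of_mul_eq_one_left h7).symm
      calc (z * (t ^ 2)⁻¹ * z) ^ 2 = z * (t ^ 2)⁻¹ * (z * z) * (t ^ 2)⁻¹ * z := by rw [pow_two]; simp only [mul_assoc]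
        _ = z * ((t ^ 2)⁻¹ * (t ^ 2)⁻¹) * z := by rw [hzz, mul_one]; simp only [mul_assoc]
        _ = z * t * z := by rw [h6]
    rw [← h5]
    exact S.pow_mem h3 2
  have hzS : z ∈ S := by
    have h5 : z = t * (z * t * z) * t := by
      have h6 : (z * t) * (z * t) * (z * t) = 1 := by rw [← hzt]; simp only [pow_succ, pow_zero, one_mul]
      have h7 : z * (t * (z * t * z) * t) = 1 := by rw [← h6]; simp only [mul_assoc]
      have h8 := inv_eq_of_mul_eq_one_right h7
      rwa [hzi] at h8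
    rw [h5]
    exact S.mul_mem (S.mul_mem htS h4) htS
  have hxS : x ∈ S := by
    have := S.mul_mem h2 hzS
    rwa [mul_assoc, hzz, mul_one] at this
  exact ⟨hxS, hyS, hzS, htS⟩

abbrev h (x : HN.Gen) : HN := Cox.g HN.edges HN.extra x

theorem hn : TwoGen HN := by
  have k1 := extra_rel (edges := HN.edges) (extra := HN.extra) (r := HN.y ^ 6) (by simp [HN.extra])
  have k2 := extra_rel (edges := HN.edges) (extra := HN.extra) (r := HN.t ^ 5) (by simp [HN.extra])
  have k3 := extra_rel (edges := HN.edges) (extra := HN.extra) (r := HN.t⁻¹ * HN.y⁻¹ * HN.t * HN.y)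
    (by simp [HN.extra])
  have k4 := extra_rel (edges := HN.edges) (extra := HN.extra) (r := HN.z ^ 2) (by simp [HN.extra])
  have k5 := extra_rel (edges := HN.edges) (extra := HN.extra) (r := (HN.x⁻¹ * HN.t * HN.x) * (HN.t ^ 2))
    (by simp [HN.extra])
  have k6 := extra_rel (edges := HN.edges) (extra := HN.extra) (r := (HN.z * HN.t) ^ 3) (by simp [HN.extra])
  simp only [map_mul, map_pow, map_inv] at k1 k2 k3 k4 k5 k6
  refine ⟨h .y * h .t, h .x * h .z, Cox.eq_top_of_forall _ fun w => ?_⟩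
  obtain ⟨h1, h2, h3, h4⟩ := hn_abs (x := h .x) (y := h .y) (z := h .z) (t := h .t) k1 k2 k3 k4 k5 k6
    (Subgroup.closure {h .y * h .t, h .x * h .z}) (Subgroup.subset_closure (Set.mem_insert _ _))
    (Subgroup.subset_closure (Set.mem_insert_of_mem _ (Set.mem_singleton _)))
  cases w
  · exact h1
  · exact h2
  · exact h3
  · exact h4

/-- **`HN`** -/
theorem twoGen_hn {G : Type*} [Group G] (h : Cfsg.Spor.IsoHN G) : TwoGen G := hn.of_equiv' h

/-! ## `He` -/

abbrev e (x : He.Gen) : He := Cox.g He.edges He.extra x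

theorem node (x : He.Gen) : x ∈ coxNodes He.edges := by cases x <;> decide

theorem he_abs {G : Type*} [Group G] {a b c d e f g : G} (ha : a * a = 1) (hb : b * b = 1) (hc : c * c = 1)
    (hd : d * d = 1) (hf : f * f = 1)
    (hab : (a * b) ^ 4 = 1) (hdf : (d * f) ^ 3 = 1) (hbc : (b * c) ^ 3 = 1) (hfg : (f * g) ^ 4 = 1)
    (had : a * d = d * a) (haf : a * f = f * a) (hbd : b * d = d * b) (hbf : b * f = f * b) (hbg : b * g = g * b)
    (hcf : c * f = f * c) (hcg : c * g = g * c)
    (he1 : e = (f * g) ^ 2) (he2 : e = (a * b * c) ^ 3) (ha5 : a = (c * d) ^ 5) (S : Subgroup G)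
    (h1 : (a * b) * (d * f) ∈ S) (h2 : (b * c) * (f * g) ∈ S) :
    a ∈ S ∧ b ∈ S ∧ c ∈ S ∧ d ∈ S ∧ e ∈ S ∧ f ∈ S ∧ g ∈ S := by
  have c1 : (a * b) * (d * f) = (d * f) * (a * b) := by
    calc (a * b) * (d * f) = a * (b * d) * f := by simp only [mul_assoc]
      _ = a * d * (b * f) := by rw [hbd]; simp only [mul_assoc]
      _ = (a * d) * f * b := by rw [hbf]; simp only [mul_assoc]
      _ = d * (a * f) * b := by rw [had]; simp only [mul_assoc]
      _ = (d * f) * (a * b) := by rw [haf]; simp only [mul_assoc]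
  have c2 : (b * c) * (f * g) = (f * g) * (b * c) := by
    calc (b * c) * (f * g) = b * (c * f) * g := by simp only [mul_assoc]
      _ = b * f * (c * g) := by rw [hcf]; simp only [mul_assoc]
      _ = (b * f) * g * c := by rw [hcg]; simp only [mul_assoc]
      _ = f * (b * g) * c := by rw [hbf]; simp only [mul_assoc]
      _ = (f * g) * (b * c) := by rw [hbg]; simp only [mul_assoc]
  have s1 : a * b ∈ S := left_mem_of_pow S c1 hab hdf (by decide) h1
  have s2 : d * f ∈ S := right_mem_of_pow S c1 hab hdf (by decide) h1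
  have s3 : b * c ∈ S := left_mem_of_pow S c2 hbc hfg (by decide) h2
  have s4 : f * g ∈ S := right_mem_of_pow S c2 hbc hfg (by decide) h2
  have s5 : e ∈ S := by rw [he1]; exact S.pow_mem s4 2
  have hai : a⁻¹ = a := inv_eq_of_mul_eq_one_left ha
  have hbi : b⁻¹ = b := inv_eq_of_mul_eq_one_left hb
  have hci : c⁻¹ = c := inv_eq_of_mul_eq_one_left hc
  have hfi : f⁻¹ = f := inv_eq_of_mul_eq_one_left hf
  -- `a e⁻¹` is an even word in `a, b, c`
  have sba : b * a ∈ S := by
    have := S.inv_mem s1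
    rwa [mul_inv_rev, hai, hbi] at this
  have scb : c * b ∈ S := by
    have := S.inv_mem s3
    rwa [mul_inv_rev, hci, hbi] at this
  have sac : a * c ∈ S := by
    have := S.mul_mem s1 s3
    have h3 : a * b * (b * c) = a * c := by
      calc a * b * (b * c) = a * (b * b) * c := by simp only [mul_assoc]
        _ = a * c := by rw [hb, mul_one]
    rwa [h3] at this
  have s6 : a ∈ S := by
    have h3 : a * e = (b * c) * (a * b) * (a * c)⁻¹ * (b * c) := by
      rw [he2, mul_inv_rev, hai, hci]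
      calc a * (a * b * c) ^ 3 = (a * a) * b * c * (a * b * c) * (a * b * c) := by
            simp only [pow_succ, pow_zero, one_mul, mul_assoc]
        _ = b * c * (a * b) * (c * a) * (b * c) := by rw [ha, one_mul]; simp only [mul_assoc]
    have h4 : a * e ∈ S := by
      rw [h3]
      exact S.mul_mem (S.mul_mem (S.mul_mem s3 s1) (S.inv_mem sac)) s3
    have h5 := S.mul_mem h4 (S.inv_mem s5)
    rwa [mul_inv_cancel_right] at h5
  have s7 : b ∈ S := by
    have := S.mul_mem s6 s1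
    rwa [← mul_assoc, ha, one_mul] at this
  have s8 : c ∈ S := by
    have := S.mul_mem s7 s3
    rwa [← mul_assoc, hb, one_mul] at this
  -- `c ^ d ∈ S`
  have s9 : d * c * d⁻¹ ∈ S := by
    have h3 : (d * f) * c * (d * f)⁻¹ = d * c * d⁻¹ := by
      calc (d * f) * c * (d * f)⁻¹ = d * (f * c) * f⁻¹ * d⁻¹ := by group
        _ = d * c * d⁻¹ := by rw [← hcf]; group
    rw [← h3]
    exact S.mul_mem (S.mul_mem s2 s8) (S.inv_mem s2)
  have s10 : (c * d) ^ 2 ∈ S := by
    have h3 : (c * d) ^ 2 = c * (d * c * d⁻¹) := by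
      rw [pow_two, inv_eq_of_mul_eq_one_left hd]; simp only [mul_assoc]
    rw [h3]
    exact S.mul_mem s8 s9
  have s11 : c * d ∈ S := by
    have h3 : c * d = (c * d) ^ 5 * (((c * d) ^ 2) ^ 2)⁻¹ := by group
    rw [h3, ← ha5]
    exact S.mul_mem s6 (S.inv_mem (S.pow_mem s10 2))
  have s12 : d ∈ S := by
    have := S.mul_mem s8 s11
    rwa [← mul_assoc, hc, one_mul] at this
  have s13 : f ∈ S := by
    have := S.mul_mem s12 s2
    rwa [← mul_assoc, hd, one_mul] at this
  have s14 : g ∈ S := by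
    have := S.mul_mem s13 s4
    rwa [← mul_assoc, hf, one_mul] at this
  exact ⟨s6, s7, s8, s12, s5, s13, s14⟩

theorem he : TwoGen He := by
  have k1 := extra_rel (edges := He.edges) (extra := He.extra) (r := He.e * ((He.f * He.g) ^ 2)⁻¹)
    (by simp [He.extra])
  have k2 := extra_rel (edges := He.edges) (extra := He.extra) (r := He.e * ((He.a * He.b * He.c) ^ 3)⁻¹)
    (by simp [He.extra])
  have k3 := extra_rel (edges := He.edges) (extra := He.extra) (r := He.a * ((He.c * He.d) ^ 5)⁻¹)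
    (by simp [He.extra])
  simp only [map_mul, map_pow, map_inv] at k1 k2 k3
  have r : ∀ x y : He.Gen, ∀ m, coxLabel He.edges x y = m → (e x * e y) ^ m = 1 := by
    rintro x y m rfl
    exact Cox.rel (node x) (node y)
  refine ⟨(e .a * e .b) * (e .d * e .f), (e .b * e .c) * (e .f * e .g), Cox.eq_top_of_forall _ fun w => ?_⟩
  obtain ⟨h1, h2, h3, h4, h5, h6, h7⟩ := he_abs (a := e .a) (b := e .b) (c := e .c) (d := e .d) (e := e .e)
    (f := e .f) (g := e .g) (Cox.sq (node _)) (Cox.sq (node _)) (Cox.sq (node _)) (Cox.sq (node _))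
    (Cox.sq (node _)) (r _ _ _ (by decide)) (r _ _ _ (by decide)) (r _ _ _ (by decide)) (r _ _ _ (by decide))
    (Cox.comm (node _) (node _) (by decide)) (Cox.comm (node _) (node _) (by decide))
    (Cox.comm (node _) (node _) (by decide)) (Cox.comm (node _) (node _) (by decide))
    (Cox.comm (node _) (node _) (by decide)) (Cox.comm (node _) (node _) (by decide))
    (Cox.comm (node _) (node _) (by decide))
    (mul_inv_eq_one.1 k1) (mul_inv_eq_one.1 k2) (mul_inv_eq_one.1 k3)
    (Subgroup.closure {(e .a * e .b) * (e .d * e .f), (e .b * e .c) * (e .f * e .g)})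
    (Subgroup.subset_closure (Set.mem_insert _ _))
    (Subgroup.subset_closure (Set.mem_insert_of_mem _ (Set.mem_singleton _)))
  cases w
  · exact h1
  · exact h2
  · exact h3
  · exact h4
  · exact h5
  · exact h6
  · exact h7

/-- **`He`** -/
theorem twoGen_he {G : Type*} [Group G] (h : Cfsg.Spor.IsoHe G) : TwoGen G := he.of_equiv' h

end Cfsg.Agent.H440.TwoGen.HNHe
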