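import Mathlib

/-!
# Two-generated groups: generalities (helper440)

* `TwoGen G`: `G` is generated by two elements; transfer along surjections and isomorphisms;
* `mem_zpowers_of_coprime`: if `a`, `b` commute and have coprime orders, both are powers of `a * b`.
-/

set_option autoImplicit false

namespace Cfsg.Agent.H440.TwoGen

/-- `G` is generated by two elements. -/
def TwoGen (G : Type*) [Group G] : Prop := ∃ x y : G, Subgroup.closure ({x, y} : Set G) = ⊤

theorem TwoGen.of_surjective {G H : Type*} [Group G] [Group H] (f : G →* H)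
    (hf : Function.Surjective f) (h : TwoGen G) : TwoGen H := by
  obtain ⟨x, y, hxy⟩ := h
  refine ⟨f x, f y, ?_⟩
  have h1 : f '' {x, y} = {f x, f y} := Set.image_pair f x y
  rw [← h1, ← MonoidHom.map_closure, hxy, Subgroup.map_top_of_surjective f hf]

theorem TwoGen.of_equiv {G H : Type*} [Group G] [Group H] (e : G ≃* H) (h : TwoGen G) :
    TwoGen H := h.of_surjective e.toMonoidHom e.surjective

/-- Transfer back along an isomorphism `G ≃* H`. -/
theorem TwoGen.of_equiv' {G H : Type*} [Group G] [Group H] (e : Nonempty (G ≃* H))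
    (h : TwoGen H) : TwoGen G := by
  obtain ⟨e⟩ := e
  exact h.of_equiv e.symm

/-- A cyclic group is 2-generated. -/
theorem TwoGen.of_isCyclic {G : Type*} [Group G] [IsCyclic G] : TwoGen G := by
  obtain ⟨g, hg⟩ := IsCyclic.exists_generator (α := G)
  refine ⟨g, g, ?_⟩
  rw [Set.pair_eq_singleton, eq_top_iff]
  intro x _
  rw [← Subgroup.zpowers_eq_closure]
  exact hg x

/-- If `a` and `b` commute and have coprime orders then `a` is a power of `a * b`. -/
theorem left_mem_zpowers {G : Type*} [Group G] {a b : G} (hc : Commute a b)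
    (hco : (orderOf a).Coprime (orderOf b)) : a ∈ Subgroup.zpowers (a * b) := by
  -- `(a b) ^ (orderOf b) = a ^ orderOf b`, a generator of `⟨a⟩`
  have h1 : a ^ orderOf b ∈ Subgroup.zpowers (a * b) := by
    have h2 : (a * b) ^ orderOf b = a ^ orderOf b := by
      rw [hc.mul_pow, pow_orderOf_eq_one, mul_one]
    rw [← h2]
    exact Subgroup.npow_mem_zpowers _ _
  have h3 : a ∈ Subgroup.zpowers (a ^ orderOf b) := by
    obtain ⟨u, v, huv⟩ : ∃ u v : ℤ, (orderOf a : ℤ) * u + (orderOf b : ℤ) * v = 1 := by
      have := Nat.gcd_eq_gcd_ab (orderOf a) (orderOf b)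
      rw [hco.gcd_eq_one] at this
      exact ⟨_, _, by exact_mod_cast this.symm⟩
    refine ⟨v, ?_⟩
    show (a ^ orderOf b) ^ v = a
    rw [← zpow_natCast, ← zpow_mul]
    have h4 : a ^ ((orderOf a : ℤ) * u + (orderOf b : ℤ) * v) = a := by rw [huv, zpow_one]
    rw [zpow_add, zpow_mul a (orderOf a : ℤ) u, zpow_natCast, pow_orderOf_eq_one, one_zpow, one_mul] at h4
    exact h4
  have h5 : Subgroup.zpowers (a ^ orderOf b) ≤ Subgroup.zpowers (a * b) := by
    rw [Subgroup.zpowers_le]; exact h1
  exact h5 h3

/-- If `a` and `b` commute and have coprime orders then `b` is a power of `a * b`. -/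
theorem right_mem_zpowers {G : Type*} [Group G] {a b : G} (hc : Commute a b)
    (hco : (orderOf a).Coprime (orderOf b)) : b ∈ Subgroup.zpowers (a * b) := by
  rw [hc.eq]
  exact left_mem_zpowers hc.symm hco.symm

/-- Version with exponents instead of orders. -/
theorem left_mem_of_pow {G : Type*} [Group G] (S : Subgroup G) {a b : G} {m n : ℕ} (hc : a * b = b * a)
    (hm : a ^ m = 1) (hn : b ^ n = 1) (hco : m.Coprime n) (h : a * b ∈ S) : a ∈ S := by
  have h1 : a ∈ Subgroup.zpowers (a * b) :=
    left_mem_zpowers hc (Nat.Coprime.of_dvd (orderOf_dvd_of_pow_eq_one hm)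
      (orderOf_dvd_of_pow_eq_one hn) hco)
  exact (Subgroup.zpowers_le.2 h) h1

/-- Version with exponents instead of orders. -/
theorem right_mem_of_pow {G : Type*} [Group G] (S : Subgroup G) {a b : G} {m n : ℕ} (hc : a * b = b * a)
    (hm : a ^ m = 1) (hn : b ^ n = 1) (hco : m.Coprime n) (h : a * b ∈ S) : b ∈ S := by
  rw [hc] at h
  exact left_mem_of_pow S hc.symm hn hm hco.symm h

end Cfsg.Agent.H440.TwoGen
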