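import Cfsg.Agent.J4.Pres
import Cfsg.Agent.H440.TwoGen.Basic

/-!
# `J4` is 2-generated (helper440)

`J4 = ⟨x, y, t⟩`, `⟨x, y⟩ ≅ M24`; `t` commutes with the element `w = x y x y (x y⁻¹)² (x y)³` of order `21`
of `M24`, and `M24 = ⟨w, y⟩`; so `J4 = ⟨t w, y⟩`.
-/

set_option autoImplicit false

open Cfsg

namespace Cfsg.Agent.H440.TwoGen.JFour

open Cfsg.Agent.J4.M24Hom Cfsg.Agent.J4.Pres Cfsg.Agent.J4.Rep112

theorem X_word : X = (Y * (X * (Y * X * Y * (X * Y⁻¹) ^ 2 * (X * Y) ^ 3))) ^ 3 *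
    (Y⁻¹ * (X * (Y * X * Y * (X * Y⁻¹) ^ 2 * (X * Y) ^ 3))⁻¹ * Y⁻¹ *
      (X * (Y * X * Y * (X * Y⁻¹) ^ 2 * (X * Y) ^ 3)) * Y⁻¹ *
      (X * (Y * X * Y * (X * Y⁻¹) ^ 2 * (X * Y) ^ 3))⁻¹ * Y *
      (X * (Y * X * Y * (X * Y⁻¹) ^ 2 * (X * Y) ^ 3)) * Y *
      (X * (Y * X * Y * (X * Y⁻¹) ^ 2 * (X * Y) ^ 3))⁻¹ *
      (X * (Y * X * Y * (X * Y⁻¹) ^ 2 * (X * Y) ^ 3))⁻¹) := by
  apply perm_ext; decide +kernel

theorem W_pow : (X * (Y * X * Y * (X * Y⁻¹) ^ 2 * (X * Y) ^ 3)) ^ 21 = 1 := by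
  apply perm_ext; decide +kernel

/-- the element `w` of `J4` -/
noncomputable def w : Cfsg.Spor.J4 := x * (y * x * y * (x * y⁻¹) ^ 2 * (x * y) ^ 3)

theorem w_pow : w ^ 21 = 1 := by
  have h1 : (XM * (YM * XM * YM * (XM * YM⁻¹) ^ 2 * (XM * YM) ^ 3)) ^ 21 = 1 :=
    Subtype.ext W_pow
  have h2 := congrArg phi h1
  simp only [map_mul, map_pow, map_inv, map_one, phi_X, phi_Y] at h2
  exact h2

theorem x_word : x = (y * w) ^ 3 * (y⁻¹ * w⁻¹ * y⁻¹ * w * y⁻¹ * w⁻¹ * y * w * y * w⁻¹ * w⁻¹) := by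
  have h1 : XM = (YM * (XM * (YM * XM * YM * (XM * YM⁻¹) ^ 2 * (XM * YM) ^ 3))) ^ 3 *
    (YM⁻¹ * (XM * (YM * XM * YM * (XM * YM⁻¹) ^ 2 * (XM * YM) ^ 3))⁻¹ * YM⁻¹ *
      (XM * (YM * XM * YM * (XM * YM⁻¹) ^ 2 * (XM * YM) ^ 3)) * YM⁻¹ *
      (XM * (YM * XM * YM * (XM * YM⁻¹) ^ 2 * (XM * YM) ^ 3))⁻¹ * YM *
      (XM * (YM * XM * YM * (XM * YM⁻¹) ^ 2 * (XM * YM) ^ 3)) * YM *
      (XM * (YM * XM * YM * (XM * YM⁻¹) ^ 2 * (XM * YM) ^ 3))⁻¹ *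
      (XM * (YM * XM * YM * (XM * YM⁻¹) ^ 2 * (XM * YM) ^ 3))⁻¹) := Subtype.ext X_word
  have h2 := congrArg phi h1
  simp only [map_mul, map_pow, map_inv, phi_X, phi_Y] at h2
  exact h2

theorem t_x : t * x = x * t := by
  have h := all_rels.2.2.2.2.2.2.2.2.2.1
  have h1 : t * x = x * t * (t⁻¹ * x⁻¹ * t * x) := by group
  rw [h1, h, mul_one]

theorem t_z : t * (y * x * y * (x * y⁻¹) ^ 2 * (x * y) ^ 3) =
    (y * x * y * (x * y⁻¹) ^ 2 * (x * y) ^ 3) * t := by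
  have h := all_rels.2.2.2.2.2.2.2.2.1
  have h1 : ∀ a b : Cfsg.Spor.J4, a⁻¹ * b⁻¹ * a * b = 1 → a * b = b * a := by
    intro a b hab
    have h2 : a * b = b * a * (a⁻¹ * b⁻¹ * a * b) := by group
    rw [h2, hab, mul_one]
  exact h1 _ _ h

theorem t_w : t * w = w * t := by
  unfold w
  rw [← mul_assoc, t_x, mul_assoc, t_z]
  simp only [mul_assoc]

theorem t_pow : t ^ 2 = 1 := all_rels.2.2.2.2.2.2.2.1

theorem closure_eq : Subgroup.closure ({t * w, y} : Set Cfsg.Spor.J4) = ⊤ := by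
  set S := Subgroup.closure ({t * w, y} : Set Cfsg.Spor.J4) with hS
  have h1 : t * w ∈ S := Subgroup.subset_closure (by simp)
  have hy : y ∈ S := Subgroup.subset_closure (by simp)
  have ht : t ∈ S := left_mem_of_pow S t_w t_pow w_pow (by decide) h1
  have hw : w ∈ S := right_mem_of_pow S t_w t_pow w_pow (by decide) h1
  have hx : x ∈ S := by
    rw [x_word]
    have hwi := S.inv_mem hw
    have hyi := S.inv_mem hy
    exact S.mul_mem (S.pow_mem (S.mul_mem hy hw) 3)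
      (S.mul_mem (S.mul_mem (S.mul_mem (S.mul_mem (S.mul_mem (S.mul_mem (S.mul_mem (S.mul_mem
        (S.mul_mem (S.mul_mem hyi hwi) hyi) hw) hyi) hwi) hy) hw) hy) hwi) hwi)
  rw [eq_top_iff, ← closure_eq_top, Subgroup.closure_le]
  rintro s (rfl | rfl | rfl)
  · exact hx
  · exact hy
  · exact ht

/-- **`J4` is generated by two elements.** -/
theorem twoGen_j4 {G : Type*} [Group G] (h : Cfsg.Spor.IsoJ4 G) : TwoGen G :=
  TwoGen.of_equiv' h ⟨_, _, closure_eq⟩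

/-- `J4` is generated by two elements (expanded form). -/
theorem twoGen {G : Type*} [Group G] (h : Cfsg.Spor.IsoJ4 G) :
    ∃ x y : G, Subgroup.closure ({x, y} : Set G) = ⊤ := twoGen_j4 h

end Cfsg.Agent.H440.TwoGen.JFour
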