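import Cfsg.Agent.J3.Simple
import Cfsg.Agent.H440.TwoGen.Basic

/-!
# `J3` is 2-generated (helper440)

`3·J3 = ⟨B, C D⟩` with `B = B_{1+i}` of order `8` and `C D = C_1 D_i` of order `17`.
-/

set_option autoImplicit false
set_option maxRecDepth 100000

namespace Cfsg.Agent.H440.TwoGen.JThree

open Cfsg.Spor Cfsg.Agent.J3.Core Cfsg.Agent.J3.Tab Cfsg.Agent.J3.Mono Cfsg.Agent.J3.Elts
open Cfsg.Agent.Lib.BitSet Cfsg.Agent.J3.Order Cfsg.Agent.J3.Nineteen Cfsg.Agent.J3.Simple Matrix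

/-- table of `P⁻¹` -/
def tP' : List ℕ := powT (tB u0) 7
/-- table of `Q` -/
def tQ : List ℕ := compT tC (tD j)
/-- table of `Q⁻¹` -/
def tQ' : List ℕ := powT tQ 16

/-- tables of the letters `P, P⁻¹, Q, Q⁻¹` -/
def tl : ℕ → List ℕ
  | 0 => tB u0
  | 1 => tP'
  | 2 => tQ
  | _ => tQ'

/-- table of a word -/
def evT : List ℕ → List ℕ
  | [] => tS 0
  | l :: w => compT (tl l) (evT w)

/-- word for `A_i` -/
def wa : List ℕ := [0, 0, 3, 0, 0, 2, 1, 3, 1, 2]
/-- word for `D_i` -/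
def wd : List ℕ := [0, 3, 1, 1, 2, 0, 3, 0, 0, 2, 1, 1]
/-- word for `E_0` -/
def we : List ℕ := [3, 0, 2, 0, 0, 3, 0, 2, 1, 3, 1, 1, 2, 1]
/-- word for `C_1` -/
def wc : List ℕ := [0, 3, 1, 1, 2, 0, 3, 0, 0, 2, 1, 1, 3]

theorem chk_a : beqL (cols (evT wa)) (cols (tA j)) = true := by decide +kernel
theorem chk_d : beqL (cols (evT wd)) (cols (tD j)) = true := by decide +kernel
theorem chk_e : beqL (cols (evT we)) (cols tE) = true := by decide +kernel
theorem chk_c : beqL (cols (evT wc)) (cols tC) = true := by decide +kernel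

section
variable {F : Type*} [Field F] {ω : F}

/-- the letters as group elements -/
def xl (G : Gens F ω) : ℕ → threeJ3 F ω
  | 0 => G.b u0
  | 1 => G.b u0 ^ 7
  | 2 => G.c * G.d j
  | _ => (G.c * G.d j) ^ 16

theorem rep_l (H : Good ω) (G : Gens F ω) (l : ℕ) : RepG ω (tl l) (xl G l) := by
  have h0 : RepG ω (tB u0) (G.b u0) := rB G H u0 u0_ne
  have h2 : RepG ω tQ (G.c * G.d j) := (rC G H).mul (rD G H j)
  match l with
  | 0 => exact h0
  | 1 => exact h0.pow H 7
  | 2 => exact h2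
  | n + 3 => exact h2.pow H 16

theorem rep_w (H : Good ω) (G : Gens F ω) (w : List ℕ) : RepG ω (evT w) (w.map (xl G)).prod := by
  induction w with
  | nil => exact repG_one H
  | cons l w ih =>
    rw [List.map_cons, List.prod_cons]
    exact (rep_l H G l).mul ih

theorem mem_w (G : Gens F ω) {N : Subgroup (threeJ3 F ω)} (hP : G.b u0 ∈ N) (hQ : G.c * G.d j ∈ N)
    (w : List ℕ) : (w.map (xl G)).prod ∈ N := by
  apply Subgroup.list_prod_mem
  intro y hy
  obtain ⟨l, -, rfl⟩ := List.mem_map.1 hy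
  match l with
  | 0 => exact hP
  | 1 => exact N.pow_mem hP 7
  | 2 => exact hQ
  | n + 3 => exact N.pow_mem hQ 16

theorem closure_eq (H : Good ω) (G : Gens F ω) :
    Subgroup.closure ({G.b u0, G.c * G.d j} : Set (threeJ3 F ω)) = ⊤ := by
  set N := Subgroup.closure ({G.b u0, G.c * G.d j} : Set (threeJ3 F ω)) with hN
  have hP : G.b u0 ∈ N := Subgroup.subset_closure (by simp)
  have hQ : G.c * G.d j ∈ N := Subgroup.subset_closure (by simp)
  have ha : G.a j ∈ N := by
    rw [← (rep_w H G wa).ext (rA G H j) (beqL_eq chk_a)]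
    exact mem_w G hP hQ wa
  have hd : G.d j ∈ N := by
    rw [← (rep_w H G wd).ext (rD G H j) (beqL_eq chk_d)]
    exact mem_w G hP hQ wd
  have he : G.e ∈ N := by
    rw [← (rep_w H G we).ext (rE G H) (beqL_eq chk_e)]
    exact mem_w G hP hQ we
  have hc : G.c ∈ N := by
    rw [← (rep_w H G wc).ext (rC G H) (beqL_eq chk_c)]
    exact mem_w G hP hQ wc
  have hb : ∀ Z, Z ≠ 0 → G.b Z ∈ N := by
    intro Z hZ
    obtain ⟨n, -, hn⟩ := chkPow Z hZ
    have h1 : G.b Z = G.b u0 ^ n :=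
      ((rB G H Z hZ).ext ((rB G H u0 u0_ne).pow H n) (beqL_eq hn).symm)
    rw [h1]
    exact N.pow_mem hP n
  have hA0 : G.a 0 = 1 := mat_injective (by
    rw [G.ha, map_one]
    exact Rep.ext (repA H 0) (rep_one H) (by decide +kernel))
  have hD0 : G.d 0 = 1 := mat_injective (by
    rw [G.hd, map_one]
    exact Rep.ext (repD H 0) (rep_one H) (by decide +kernel))
  have hA : ∀ Z, G.a Z ∈ N := by
    intro Z
    by_cases hZ : Z = 0
    · rw [hZ, hA0]; exact N.one_mem
    · obtain ⟨u, hu, e⟩ := exists_conj Z hZ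
      have h1 : G.a j * G.b u = G.b u * G.a Z := mat_injective (by
        rw [map_mul, map_mul, G.ha, G.hb u hu, G.ha, relAB H j u hu, e])
      have h2 : G.a Z = (G.b u)⁻¹ * (G.a j * G.b u) := by rw [h1]; group
      rw [h2]
      exact N.mul_mem (N.inv_mem (hb u hu)) (N.mul_mem ha (hb u hu))
  have hD : ∀ Z, G.d Z ∈ N := by
    intro Z
    by_cases hZ : Z = 0
    · rw [hZ, hD0]; exact N.one_mem
    · obtain ⟨u, hu, e⟩ := exists_div Z hZ
      have h1 : G.d j * G.b u = G.b u * G.d Z := mat_injective (by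
        rw [map_mul, map_mul, G.hd, G.hb u hu, G.hd, relDB H j u hu, e])
      have h2 : G.d Z = (G.b u)⁻¹ * (G.d j * G.b u) := by rw [h1]; group
      rw [h2]
      exact N.mul_mem (N.inv_mem (hb u hu)) (N.mul_mem hd (hb u hu))
  refine G.eq_top H (fun x n hx => ?_) hA hD hb he hc
  -- the scalars
  obtain ⟨s, hs⟩ := exists_scalar H G
  have hDA : G.d j * G.a j = s ^ 2 * (G.a j * G.d j) := by
    apply mat_injective
    rw [map_mul, map_mul, map_pow, map_mul, hs, G.hd, G.ha, relDA H j j, dot_jj, smul_pow, one_pow]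
  have hs3 : s ^ 3 = 1 := by
    apply mat_injective
    rw [map_pow, hs, smul_pow, one_pow, H.cube, one_smul, map_one]
  have hs2 : s ^ 2 ∈ N := by
    have h1 : s ^ 2 = G.d j * G.a j * (G.a j * G.d j)⁻¹ := by rw [hDA]; group
    rw [h1]
    exact N.mul_mem (N.mul_mem hd ha) (N.inv_mem (N.mul_mem ha hd))
  have hsN : s ∈ N := by
    have h1 : s = (s ^ 2) ^ 2 := by
      rw [← pow_mul]
      calc s = s ^ 3 * s := by rw [hs3, one_mul]
        _ = s ^ (2 * 2) := by rw [← pow_succ]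
    rw [h1]
    exact N.pow_mem hs2 2
  have : x = s ^ n := mat_injective (by rw [hx, map_pow, hs, smul_pow, one_pow])
  rw [this]
  exact N.pow_mem hsN n

end

/-- **`J3` is generated by two elements.** -/
theorem twoGen_j3 {G : Type*} [Group G] (h : Cfsg.Spor.IsoJ3 G) : TwoGen G := by
  obtain ⟨F, _, _, ω, hF, hω, e⟩ := h
  have H := good_of_card hF hω
  obtain ⟨Gn⟩ := exists_gens hF H
  refine TwoGen.of_equiv' e ?_
  exact TwoGen.of_surjective (QuotientGroup.mk' _) (QuotientGroup.mk'_surjective _)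
    ⟨_, _, closure_eq H Gn⟩

/-- `J3` is generated by two elements (expanded form). -/
theorem twoGen {G : Type*} [Group G] (h : Cfsg.Spor.IsoJ3 G) :
    ∃ x y : G, Subgroup.closure ({x, y} : Set G) = ⊤ := twoGen_j3 h

end Cfsg.Agent.H440.TwoGen.JThree
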