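import Cfsg.Agent.Ly.Index
import Cfsg.Agent.H440.TwoGen.Basic

/-!
# The Lyons group is 2-generated (helper440)

`Ly = ⟨a, b, c, d, z⟩`; `z` (of order dividing `8`) commutes with `h = a⁻¹ b a b⁻¹` (of order three) and
`⟨h, d c⟩ = ⟨a, b, c, d⟩ ≅ G₂(5)`; so `Ly = ⟨z h, d c⟩`. The words are checked in `GL₇(5)`.
-/

set_option autoImplicit false

namespace Cfsg.Agent.H440.TwoGen.Lyons

open Cfsg.Agent.Ly.Mat7 Cfsg.Agent.Ly.Upper Cfsg.Agent.Ly.Index Cfsg.Agent.Ly.Pres Cfsg.Agent.Ly.WalkCtx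

/-- word in `a, b, c, d` -/
noncomputable def wd (l : List ℕ) : Cfsg.Spor.Ly := ev (X4 gens) l

theorem wd_append (l m : List ℕ) : wd (l ++ m) = wd l * wd m := ev_append _ _ _

theorem wd_flat {S : Subgroup Cfsg.Spor.Ly} (ls : List (List ℕ)) (h : ∀ l ∈ ls, wd l ∈ S) :
    wd ls.flatten ∈ S := by
  induction ls with
  | nil => exact S.one_mem
  | cons l ls ih =>
    rw [List.flatten_cons, wd_append]
    exact S.mul_mem (h l (by simp)) (ih fun m hm => h m (by simp [hm]))

theorem wd_eq {v w : List ℕ} (h : eqW v w = true) : wd v = wd w := data.wp v w h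

/-- `h = a⁻¹ b a b⁻¹` -/
def h : List ℕ := [4, 1, 0, 5]
/-- `h⁻¹` -/
def h' : List ℕ := [1, 4, 5, 0]
/-- `p = d c` -/
def p : List ℕ := [3, 2]
/-- `p⁻¹` -/
def p' : List ℕ := [6, 7]

/-- word for `a` -/
def la : List (List ℕ) := [p', p', h, p, p, p, h', p, p, p, h, p', p', h, p, h, p', h', p, p, p, h']
/-- word for `b` -/
def lb : List (List ℕ) := [h', p', p', p', h, p', h, p, h', p', h', p', p', h', p', p', h, p', h', p', p', h']
/-- word for `c` -/
def lc : List (List ℕ) := [p', h, p', p', p', p', h', p', h', p, h', p, h', p', p', h, p, h', p', p', h']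
/-- word for `d` -/
def ld : List (List ℕ) := [p, h, p, p, h, p', h', p, p, h, p', h, p', h, p, h, p, p, p, p, h', p]

theorem eh : eqW (h ++ h') [] = true := by decide +kernel
theorem ep : eqW (p ++ p') [] = true := by decide +kernel
theorem eh3 : eqW (h ++ h ++ h) [] = true := by decide +kernel
theorem ea : eqW [0] la.flatten = true := by decide +kernel
theorem eb : eqW [1] lb.flatten = true := by decide +kernel
theorem ec : eqW [2] lc.flatten = true := by decide +kernel
theorem ed : eqW [3] ld.flatten = true := by decide +kernel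
theorem ez : eqW [0, 0, 0, 1, 4, 5, 4, 4] h = true := by decide +kernel
theorem ea8 : eqW [0, 0, 0, 0, 0, 0, 0, 0] [] = true := by decide +kernel

theorem mem_of_mul {S : Subgroup Cfsg.Spor.Ly} {x y : Cfsg.Spor.Ly} (h : x * y = 1) (hx : x ∈ S) : y ∈ S := by
  rw [← inv_eq_of_mul_eq_one_right h]; exact S.inv_mem hx

theorem z_sq : gens 4 * gens 4 = gens 0 * gens 0 := by
  have h1 := rel_hold rel81 (by simp [relWords])
  rw [FreeGroup.lift_mk] at h1
  simp only [rel81, List.map_cons, List.map_nil, List.prod_cons, List.prod_nil, cond_true, cond_false,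
    mul_one] at h1
  calc gens 4 * gens 4 = (gens 4 * (gens 4 * ((gens 0)⁻¹ * (gens 0)⁻¹))) * (gens 0 * gens 0) := by group
    _ = gens 0 * gens 0 := by rw [h1, one_mul]

theorem z_pow : (gens 4) ^ 8 = (1 : Cfsg.Spor.Ly) := by
  have h1 : wd [0, 0, 0, 0, 0, 0, 0, 0] = wd [] := wd_eq ea8
  have h2 : wd [0, 0, 0, 0, 0, 0, 0, 0] = (gens 0 * gens 0) ^ 4 := by
    have h3 : wd [0, 0, 0, 0, 0, 0, 0, 0] = gens 0 * (gens 0 * (gens 0 * (gens 0 * (gens 0 * (gens 0 *
      (gens 0 * (gens 0 * 1))))))) := rfl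
    rw [h3]; simp only [pow_succ, pow_zero, one_mul, mul_one, mul_assoc]
  calc (gens 4) ^ 8 = (gens 4 * gens 4) ^ 4 := by simp only [pow_succ, pow_zero, one_mul, mul_assoc]
    _ = 1 := by rw [z_sq, ← h2, h1]; rfl

theorem z_h : gens 4 * wd h = wd h * gens 4 := by
  have h1 := rel_hold rel78 (by simp [relWords])
  have h2 := rel_hold rel79 (by simp [relWords])
  rw [FreeGroup.lift_mk] at h1 h2
  simp only [rel78, rel79, List.map_cons, List.map_nil, List.prod_cons, List.prod_nil, cond_true, cond_false,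
    mul_one] at h1 h2
  have h3 : (gens 4)⁻¹ * gens 0 * gens 4 = (gens 0 * gens 0 * gens 0)⁻¹ := by
    apply eq_inv_of_mul_eq_one_left
    rw [← h1]; group
  have h4 : (gens 4)⁻¹ * (gens 1 * gens 0 * (gens 1)⁻¹) * gens 4 =
      (gens 0 * gens 0 * gens 1 * gens 0 * (gens 1)⁻¹)⁻¹ := by
    apply eq_inv_of_mul_eq_one_left
    rw [← h2]; group
  have h5 : wd h = (gens 0)⁻¹ * (gens 1 * (gens 0 * ((gens 1)⁻¹ * 1))) := rfl
  have h6 : wd [0, 0, 0, 1, 4, 5, 4, 4] = gens 0 * (gens 0 * (gens 0 * (gens 1 * ((gens 0)⁻¹ * ((gens 1)⁻¹ *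
    ((gens 0)⁻¹ * ((gens 0)⁻¹ * 1))))))) := rfl
  have h7 : (gens 4)⁻¹ * wd h * gens 4 = wd h := by
    calc (gens 4)⁻¹ * wd h * gens 4
        = ((gens 4)⁻¹ * gens 0 * gens 4)⁻¹ * ((gens 4)⁻¹ * (gens 1 * gens 0 * (gens 1)⁻¹) * gens 4) := by
          rw [h5]; group
      _ = wd [0, 0, 0, 1, 4, 5, 4, 4] := by
          rw [h3, h4, h6]; simp only [mul_inv_rev, inv_inv, mul_one, mul_assoc]
      _ = wd h := wd_eq ez
  calc gens 4 * wd h = gens 4 * ((gens 4)⁻¹ * wd h * gens 4) := by rw [h7]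
    _ = wd h * gens 4 := by group

theorem closure_eq : Subgroup.closure ({gens 4 * wd h, wd p} : Set Cfsg.Spor.Ly) = ⊤ := by
  set S := Subgroup.closure ({gens 4 * wd h, wd p} : Set Cfsg.Spor.Ly) with hS
  have h1 : gens 4 * wd h ∈ S := Subgroup.subset_closure (by simp)
  have hp : wd p ∈ S := Subgroup.subset_closure (by simp)
  have hp' : wd p' ∈ S := mem_of_mul (by rw [← wd_append]; exact wd_eq ep) hp
  have h3 : wd h ^ 3 = 1 := by
    have h2 : wd (h ++ h ++ h) = 1 := wd_eq eh3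
    rw [wd_append, wd_append] at h2
    rw [pow_succ, pow_two]; exact h2
  have hz : gens 4 ∈ S := left_mem_of_pow S z_h z_pow h3 (by decide) h1
  have hh : wd h ∈ S := right_mem_of_pow S z_h z_pow h3 (by decide) h1
  have hh' : wd h' ∈ S := mem_of_mul (by rw [← wd_append]; exact wd_eq eh) hh
  have hall : ∀ l ∈ [h, h', p, p'], wd l ∈ S := by
    intro l hl
    simp only [List.mem_cons, List.not_mem_nil, or_false] at hl
    rcases hl with rfl | rfl | rfl | rfl
    · exact hh
    · exact hh'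
    · exact hp
    · exact hp'
  have ha : wd [0] ∈ S := by
    rw [wd_eq ea]; exact wd_flat la fun l hl => hall l (by revert l; decide)
  have hb : wd [1] ∈ S := by
    rw [wd_eq eb]; exact wd_flat lb fun l hl => hall l (by revert l; decide)
  have hc : wd [2] ∈ S := by
    rw [wd_eq ec]; exact wd_flat lc fun l hl => hall l (by revert l; decide)
  have hd : wd [3] ∈ S := by
    rw [wd_eq ed]; exact wd_flat ld fun l hl => hall l (by revert l; decide)
  have e0 : wd [0] = gens 0 := mul_one _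
  have e1 : wd [1] = gens 1 := mul_one _
  have e2 : wd [2] = gens 2 := mul_one _
  have e3 : wd [3] = gens 3 := mul_one _
  rw [e0] at ha
  rw [e1] at hb
  rw [e2] at hc
  rw [e3] at hd
  rw [eq_top_iff, ← closure_gens, Subgroup.closure_le]
  rintro _ ⟨i, rfl⟩
  fin_cases i
  · exact ha
  · exact hb
  · exact hc
  · exact hd
  · exact hz

/-- **The Lyons group is generated by two elements.** -/
theorem twoGen_ly {G : Type*} [Group G] (h : Cfsg.Spor.IsoLy G) : TwoGen G :=
  TwoGen.of_equiv' h ⟨_, _, closure_eq⟩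

/-- The Lyons group is generated by two elements (expanded form). -/
theorem twoGen {G : Type*} [Group G] (h : Cfsg.Spor.IsoLy G) :
    ∃ x y : G, Subgroup.closure ({x, y} : Set G) = ⊤ := twoGen_ly h

end Cfsg.Agent.H440.TwoGen.Lyons
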