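import Cfsg.Agent.H440.TwoGen.Monster
import Cfsg.Agent.MonsterP.Equiv

/-!
# The Monster is 2-generated (helper440)
-/

set_option autoImplicit false

namespace Cfsg.Agent.H440.TwoGen.MonsterM

open Cfsg.Agent.Bimonster

/-- the presented group `PM` -/
theorem pm : TwoGen PM := Monster.twoGen_of_nodes xM_prel.cox xM_gen

/-- **the Monster** -/
theorem twoGen_m {G : Type*} [Group G] (h : Cfsg.Spor.IsoM G) : TwoGen G := by
  obtain ⟨e⟩ := h
  obtain ⟨e'⟩ := Cfsg.Agent.MonsterP.Equiv.equivM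
  exact (pm.of_equiv e'.symm).of_equiv e.symm

end Cfsg.Agent.H440.TwoGen.MonsterM
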