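import Cfsg.Agent.H440.TwoGen.CoxInst
import Cfsg.Agent.H440.TwoGen.Fi24
import Cfsg.Agent.H440.TwoGen.HNHe
import Cfsg.Agent.H440.TwoGen.JFour
import Cfsg.Agent.H440.TwoGen.JThree
import Cfsg.Agent.H440.TwoGen.Lyons
import Cfsg.Agent.H440.TwoGen.MonsterM
import Cfsg.Agent.H440.TwoGen.ONan
import Cfsg.Agent.H440.TwoGen.Rud
import Cfsg.Agent.H136.Gen2.Co1
import Cfsg.Agent.H136.Gen2.Co2
import Cfsg.Agent.H136.Gen2.Co3
import Cfsg.Agent.H136.Gen2.Th
import Cfsg.Agent.H994.TwoGen.M11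
import Cfsg.Agent.H994.TwoGen.M12
import Cfsg.Agent.H994.TwoGen.M22
import Cfsg.Agent.H994.TwoGen.M23
import Cfsg.Agent.H994.TwoGen.M24
import Cfsg.Agent.H994.TwoGen.J1
import Cfsg.Agent.H994.TwoGen.J2
import Cfsg.Agent.H994.TwoGen.HS
import Cfsg.Agent.H994.TwoGen.McL
import Cfsg.Agent.H994.TwoGen.Suz
import Cfsg.Prelude.Def_Classification2

/-!
# The 26 sporadic groups are 2-generated (helper440; parts by helper136 and helper994)
-/

set_option autoImplicit false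

namespace Cfsg.Agent.H440.TwoGen.Spor

/-- **Every sporadic group is generated by two elements.** -/
theorem twoGen {G : Type*} [Group G] (h : Cfsg.IsSporadicGroup G) : TwoGen G := by
  rcases h with h | h | h | h | h | h | h | h | h | h | h | h | h | h | h | h | h | h | h | h | h | h | h | h | h | h
  · exact Cfsg.Agent.H994.TwoGen.M11.twoGen h
  · exact Cfsg.Agent.H994.TwoGen.M12.twoGen h
  · exact Cfsg.Agent.H994.TwoGen.M22.twoGen h
  · exact Cfsg.Agent.H994.TwoGen.M23.twoGen h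
  · exact Cfsg.Agent.H994.TwoGen.M24.twoGen h
  · exact Cfsg.Agent.H994.TwoGen.J1.twoGen h
  · exact Cfsg.Agent.H994.TwoGen.J2.twoGen h
  · exact JThree.twoGen_j3 h
  · exact JFour.twoGen_j4 h
  · exact Cfsg.Agent.H136.Gen2.Co1.twoGen h
  · exact Cfsg.Agent.H136.Gen2.Co2.twoGen h
  · exact Cfsg.Agent.H136.Gen2.Co3.twoGen h
  · exact Cfsg.Agent.H994.TwoGen.McL.twoGen h
  · exact Cfsg.Agent.H994.TwoGen.HS.twoGen h
  · exact Cfsg.Agent.H994.TwoGen.Suz.twoGen h
  · exact HNHe.twoGen_he h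
  · exact Rud.twoGen_ru h
  · exact ONan.twoGen_on h
  · exact Lyons.twoGen_ly h
  · exact CoxInst.twoGen_fi22 h
  · exact CoxInst.twoGen_fi23 h
  · exact Fi24.twoGen_fi24 h
  · exact HNHe.twoGen_hn h
  · exact Cfsg.Agent.H136.Gen2.Th.twoGen h
  · exact CoxInst.twoGen_b h
  · exact MonsterM.twoGen_m h

end Cfsg.Agent.H440.TwoGen.Spor
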