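import Cfsg.Agent.Mrg.Omega.TitsIso.Model
import Cfsg.Agent.H440.TwoGen.Basic

/-!
# The Tits group is 2-generated (helper440)

The Tits group is generated by the eight central involutions `Z i` of an apartment; `p = Z₂ Z₇ Z₅` and
`q = Z₂ Z₄ Z₀` (both of order `10`) generate them. The words are checked in the 52-dimensional representation.
-/

set_option autoImplicit false
set_option maxRecDepth 100000

namespace Cfsg.Agent.H440.TwoGen.Tits

open Cfsg.Agent.ChevalleyStructure.Tits.Pack Cfsg.Agent.ChevalleyStructure.Tits.Data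
  Cfsg.Agent.ChevalleyStructure.Tits.Sat Cfsg.Agent.ChevalleyStructure.Tits.Final
  Cfsg.Agent.ChevalleyStructure.Tits.Mat Cfsg.Agent.ChevalleyStructure.Tits.Order
  Cfsg.Agent.ChevalleyStructure.Tits.Main Cfsg.Agent.Omega.TitsIso.TitsSideRel
  Cfsg.Agent.Omega.TitsIso.TitsSide

/-- `p = Z₂ Z₇ Z₅` -/
def p : List (ZMod 8) := [2, 7, 5]
/-- `p⁻¹` -/
def p' : List (ZMod 8) := [5, 7, 2]
/-- `q = Z₂ Z₄ Z₀` -/
def q : List (ZMod 8) := [2, 4, 0]
/-- `q⁻¹` -/
def q' : List (ZMod 8) := [0, 4, 2]

/-- words of the eight involutions in `p, q` -/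
def wl : List (List (List (ZMod 8))) := [
  [q, q, p, p, p, p, p],
  [q, p', p', q, p, q, q, q, p, q, p, p, p, q'],
  [q, q, q, q, q],
  [q', p', p', q, p, q, q, q, p, q, p, p, p, q],
  [q', q', p, p, p, p, p],
  [q, q, p', q', p', q'],
  [p, q, p', q, p, p, q', q', q', p', p', q', q', p', p', q', p, q', p'],
  [q', q', p', q, p', q]]
/-- word of `Z i` -/
def w (i : ZMod 8) : List (List (ZMod 8)) := wl.getD i.val []

theorem w_mem : ∀ i : ZMod 8, ∀ l ∈ w i, l ∈ [p, p', q, q'] := by decide

theorem chk_w : ∀ i : ZMod 8, chk (zz [i], zz (w i).flatten) = true := by decide +kernel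

theorem chk_p : chk (zz (p ++ p'), zz []) = true := by decide +kernel
theorem chk_q : chk (zz (q ++ q'), zz []) = true := by decide +kernel

theorem rel {l m : List (ZMod 8)} (h : chk (zz l, zz m) = true) : (l.map ZC).prod = (m.map ZC).prod := by
  have key : ∀ l : List (ZMod 8), ((((l.map ZC).prod : ↥(commutator ChevalleyStructure.Tits.Order.H0)) :
      ChevalleyStructure.Tits.Order.H0)) = (l.map ZH).prod := by
    intro l
    induction l with
    | nil => rfl
    | cons a l ih =>
      rw [List.map_cons, List.prod_cons, List.map_cons, List.prod_cons, Subgroup.coe_mul, ih]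
      rfl
  apply Subtype.ext
  rw [key, key]
  exact rel_zz h

/-- abstract form -/
theorem twoGen_abs {M : Type*} [Group M] (Z : ZMod 8 → M)
    (rel : ∀ l m : List (ZMod 8), chk (zz l, zz m) = true → (l.map Z).prod = (m.map Z).prod)
    (hZ : Subgroup.closure (Set.range Z) = ⊤) : TwoGen M := by
  refine ⟨(p.map Z).prod, (q.map Z).prod, ?_⟩
  set N := Subgroup.closure ({(p.map Z).prod, (q.map Z).prod} : Set M) with hN
  have hp : (p.map Z).prod ∈ N := Subgroup.subset_closure (Or.inl rfl)
  have hq : (q.map Z).prod ∈ N := Subgroup.subset_closure (Or.inr rfl)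
  have hinv : ∀ l m : List (ZMod 8), chk (zz (l ++ m), zz []) = true → (l.map Z).prod ∈ N →
      (m.map Z).prod ∈ N := by
    intro l m h hl
    have h1 := rel _ _ h
    rw [List.map_append, List.prod_append, List.map_nil, List.prod_nil] at h1
    rw [← inv_eq_of_mul_eq_one_right h1]
    exact N.inv_mem hl
  have hp' := hinv p p' chk_p hp
  have hq' := hinv q q' chk_q hq
  have hall : ∀ l ∈ [p, p', q, q'], (l.map Z).prod ∈ N := by
    intro l hl
    simp only [List.mem_cons, List.not_mem_nil, or_false] at hl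
    rcases hl with rfl | rfl | rfl | rfl
    · exact hp
    · exact hp'
    · exact hq
    · exact hq'
  have hflat : ∀ ls : List (List (ZMod 8)), (∀ l ∈ ls, l ∈ [p, p', q, q']) → (ls.flatten.map Z).prod ∈ N := by
    intro ls
    induction ls with
    | nil => intro _; exact N.one_mem
    | cons l ls ih =>
      intro h
      rw [List.flatten_cons, List.map_append, List.prod_append]
      exact N.mul_mem (hall l (h l List.mem_cons_self)) (ih fun m hm => h m (List.mem_cons_of_mem _ hm))
  have hZN : ∀ i, Z i ∈ N := by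
    intro i
    have h1 := rel _ _ (chk_w i)
    rw [List.map_singleton, List.prod_singleton] at h1
    rw [h1]
    exact hflat _ (w_mem i)
  rw [eq_top_iff, ← hZ, Subgroup.closure_le]
  rintro _ ⟨i, rfl⟩
  exact hZN i

/-- the model is generated by two elements -/
theorem twoGen_model : TwoGen ↥(commutator ChevalleyStructure.Tits.Order.H0) :=
  twoGen_abs ZC (fun _ _ h => rel h) closure_ZC

theorem twoGen_of_eq (K : Subgroup (GL I52 (ZMod 2))) (hK : K = ChevalleyStructure.Tits.Order.H0) :
    TwoGen ↥(commutator K) := by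
  subst hK
  exact twoGen_model

theorem twoGen_titsGroup : TwoGen Cfsg.Lie.TitsGroup :=
  twoGen_of_eq (Cfsg.Lie.twistedF4 (ZMod 2) 1) T0_eq_H0

/-- **The Tits group is generated by two elements.** -/
theorem twoGen_tits {G : Type*} [Group G] (h : Cfsg.Lie.IsoTits G) : TwoGen G := by
  obtain ⟨e⟩ := h
  exact TwoGen.of_surjective (e.symm : Cfsg.Lie.TitsGroup →* G) e.symm.surjective twoGen_titsGroup

/-- The Tits group is generated by two elements (expanded form). -/
theorem twoGen {G : Type*} [Group G] (h : Cfsg.Lie.IsoTits G) :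
    ∃ x y : G, Subgroup.closure ({x, y} : Set G) = ⊤ := twoGen_tits h

end Cfsg.Agent.H440.TwoGen.Tits
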