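import Cfsg.Agent.H440.TwoGen.Assemble
import Cfsg.Agent.H440.TwoGen.Spor
import Cfsg.Agent.H440.TwoGen.Tits
import Cfsg.Agent.S2411
import Cfsg.Agent.S2412
import Cfsg.Agent.S2413
import Cfsg.Agent.S2414
import Cfsg.Agent.S2415

/-!
# Every known finite simple group is 2-generated, given the Chevalley groups (helper440)
-/

set_option autoImplicit false

universe u

namespace Cfsg.Agent.H440.TwoGen.Full

open Cfsg.Agent.H440.TwoGen

/-- the statement about the Chevalley groups (S2405) -/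
def Chev : Prop := ∀ (F : Type) [Field F] [Finite F] (D : Cfsg.Lie.ChevalleyDatum),
    D ∈ [Cfsg.Lie.chevG2, Cfsg.Lie.chevB2, Cfsg.Lie.chevD4, Cfsg.Lie.chevF4, Cfsg.Lie.chevE6, Cfsg.Lie.chevE7,
      Cfsg.Lie.chevE8] →
    (D ∈ [Cfsg.Lie.chevB2, Cfsg.Lie.chevG2] → ∃ x : F, x ≠ 0 ∧ x ≠ 1) → TwoGen ↥(D.group F)

theorem rest (h : Chev) : Assemble.Rest.{u} where
  chev := h
  psp := fun F _ _ m hm hF => Cfsg.Agent.S2411.result m hm hF
  psu := fun F _ _ q hq hF n hn h32 => Cfsg.Agent.S2412.result hq hF n hn h32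
  odd := fun F _ _ hodd m hm => Cfsg.Agent.S2413.result hodd m hm
  plus := fun F _ _ m hm => Cfsg.Agent.S2414.result m hm
  minus := fun F _ _ m hm a b hab => Cfsg.Agent.S2415.result m hm a b hab
  tits := fun h => Tits.twoGen_tits h
  spor := fun h => Spor.twoGen h

theorem known (hc : Chev) {G : Type u} [Group G] (h : Cfsg.IsKnownSimple' G) : TwoGen G :=
  Assemble.known (rest hc) h

end Cfsg.Agent.H440.TwoGen.Full
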