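import Cfsg.Agent.H440.TwoGen.Star
import Cfsg.Prelude.Def_SporCoxeter

/-!
# Relations in `CoxPresented` (helper440)
-/

set_option autoImplicit false

namespace Cfsg.Agent.H440.TwoGen.Cox

open Cfsg.Spor

variable {α : Type*} [DecidableEq α] {edges : List (α × ℕ × α)} {extra : List (FreeGroup α)}

/-- the generator `x` of the presented group -/
def g (edges : List (α × ℕ × α)) (extra : List (FreeGroup α)) (x : α) : CoxPresented α edges extra :=
  PresentedGroup.of x

theorem rel {x y : α} (hx : x ∈ coxNodes edges) (hy : y ∈ coxNodes edges) :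
    (g edges extra x * g edges extra y) ^ coxLabel edges x y = 1 := by
  have h : PresentedGroup.mk (coxRelators edges ∪ {r | r ∈ extra})
      ((FreeGroup.of x * FreeGroup.of y) ^ coxLabel edges x y) = 1 :=
    PresentedGroup.one_of_mem (Or.inl ⟨x, hx, y, hy, rfl⟩)
  rw [map_pow, map_mul] at h
  exact h

theorem sq {x : α} (hx : x ∈ coxNodes edges) : g edges extra x * g edges extra x = 1 := by
  have h := rel (extra := extra) hx hx
  have h1 : coxLabel edges x x = 1 := by unfold coxLabel; rw [if_pos rfl]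
  rwa [h1, pow_one] at h

theorem comm {x y : α} (hx : x ∈ coxNodes edges) (hy : y ∈ coxNodes edges) (hl : coxLabel edges x y = 2) :
    g edges extra x * g edges extra y = g edges extra y * g edges extra x := by
  have h := rel (extra := extra) hx hy
  rw [hl, pow_two] at h
  have h1 := eq_inv_of_mul_eq_one_left h
  rw [mul_inv_rev, inv_eq_of_mul_eq_one_left (sq hx), inv_eq_of_mul_eq_one_left (sq hy)] at h1
  exact h1

theorem braid {x y : α} (hx : x ∈ coxNodes edges) (hy : y ∈ coxNodes edges) (hl : coxLabel edges x y = 3) :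
    g edges extra x * g edges extra y * g edges extra x = g edges extra y * g edges extra x * g edges extra y := by
  have h := rel (extra := extra) hx hy
  rw [hl, pow_succ, pow_two] at h
  have h2 : (g edges extra x * g edges extra y * g edges extra x) *
      (g edges extra y * g edges extra x * g edges extra y) = 1 := by
    rw [← h]; simp only [mul_assoc]
  rw [eq_inv_of_mul_eq_one_left h2]
  simp only [mul_inv_rev, inv_eq_of_mul_eq_one_left (sq (extra := extra) hx),
    inv_eq_of_mul_eq_one_left (sq (extra := extra) hy), mul_assoc]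

theorem cube {x y : α} (hx : x ∈ coxNodes edges) (hy : y ∈ coxNodes edges) (hl : coxLabel edges x y = 3) :
    (g edges extra x * g edges extra y) ^ 3 = 1 := by
  have h := rel (extra := extra) hx hy
  rwa [hl] at h

/-- the presented group is generated by its generators -/
theorem eq_top_of_forall (S : Subgroup (CoxPresented α edges extra)) (h : ∀ x, g edges extra x ∈ S) : S = ⊤ := by
  rw [eq_top_iff, ← PresentedGroup.closure_range_of, Subgroup.closure_le]
  rintro _ ⟨x, rfl⟩
  exact h x

/-- **Arm of length two**: path `pth 0, …, pth (n-1)`, centre `pth k`, arm `a, b`. -/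
theorem twoGen_arm2 {n : ℕ} (hn : 4 ≤ n) (pth : ℕ → α) (k : ℕ) (hk2 : 2 ≤ k) (hkn : k < n) (a b : α)
    (hnode : ∀ x : α, x ∈ coxNodes edges)
    (hbr : ∀ i < n - 1, coxLabel edges (pth i) (pth (i + 1)) = 3)
    (hcm : ∀ i < n, ∀ j < n, i + 1 < j → coxLabel edges (pth i) (pth j) = 2)
    (hak : coxLabel edges a (pth k) = 3) (ha0 : coxLabel edges a (pth 0) = 2) (ha1 : coxLabel edges a (pth 1) = 2)
    (hb : ∀ i < n, coxLabel edges (pth i) b = 2)
    (hall : ∀ x : α, x = a ∨ x = b ∨ ∃ i < n, x = pth i)
    (c : Equiv.Perm (Fin (n + 1))) {m : ℕ} (hm : Nat.Coprime m 2) (hc : c ^ m = 1)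
    (hcz : ∀ S : Subgroup (Equiv.Perm (Fin (n + 1))), c ∈ S →
      CharactersDeep.SchurAltPerm.x (⟨0, by omega⟩ : Fin (n + 1)) ⟨1, by omega⟩ ⟨2, by omega⟩ ∈ S →
      alternatingGroup (Fin (n + 1)) ≤ S) : TwoGen (CoxPresented α edges extra) := by
  have hsq : ∀ x, g edges extra x * g edges extra x = 1 := fun x => sq (hnode x)
  obtain ⟨X, Y, h1, h2, h3⟩ := Star.star hn (fun i => g edges extra (pth i)) (fun i _ => hsq _)
    (fun i hi => braid (hnode _) (hnode _) (hbr i (by omega)))
    (fun i j hij hj => comm (hnode _) (hnode _) (hcm i (by omega) j hj hij)) hk2 hkn c hm hc hcz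
    (g edges extra a) (g edges extra a) (g edges extra b) (by rw [pow_two]; exact hsq _)
    (by rw [show (4 : ℕ) = 2 * 2 from rfl, pow_mul, pow_two (g edges extra a), hsq, one_pow])
    (fun i hi => comm (hnode _) (hnode _) (hb i hi))
    (comm (hnode _) (hnode _) ha0) (comm (hnode _) (hnode _) ha1)
    (Subgroup.subset_closure (Set.mem_insert _ _))
    (cube (hnode _) (hnode _) hak) (comm (hnode _) (hnode _) ha0)
  refine ⟨X, Y, eq_top_of_forall _ fun x => ?_⟩
  rcases hall x with rfl | rfl | ⟨i, hi, rfl⟩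
  · exact h2
  · exact h3
  · exact h1 i hi

/-- **Arm of length three**: path `pth 0, …, pth (n-1)`, centre `pth k`, arm `a, b, d`. -/
theorem twoGen_arm3 {n : ℕ} (hn : 4 ≤ n) (pth : ℕ → α) (k : ℕ) (hk2 : 2 ≤ k) (hkn : k < n) (a b d : α)
    (hnode : ∀ x : α, x ∈ coxNodes edges)
    (hbr : ∀ i < n - 1, coxLabel edges (pth i) (pth (i + 1)) = 3)
    (hcm : ∀ i < n, ∀ j < n, i + 1 < j → coxLabel edges (pth i) (pth j) = 2)
    (hak : coxLabel edges a (pth k) = 3) (ha0 : coxLabel edges a (pth 0) = 2) (ha1 : coxLabel edges a (pth 1) = 2)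
    (hb : ∀ i < n, coxLabel edges (pth i) b = 2)
    (hd0 : coxLabel edges d (pth 0) = 2) (hd1 : coxLabel edges d (pth 1) = 2)
    (hab : coxLabel edges a b = 3) (hbd : coxLabel edges b d = 3) (had : coxLabel edges a d = 2)
    (hall : ∀ x : α, x = a ∨ x = b ∨ x = d ∨ ∃ i < n, x = pth i)
    (c : Equiv.Perm (Fin (n + 1))) {m : ℕ} (hm : Nat.Coprime m 2) (hc : c ^ m = 1)
    (hcz : ∀ S : Subgroup (Equiv.Perm (Fin (n + 1))), c ∈ S →
      CharactersDeep.SchurAltPerm.x (⟨0, by omega⟩ : Fin (n + 1)) ⟨1, by omega⟩ ⟨2, by omega⟩ ∈ S →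
      alternatingGroup (Fin (n + 1)) ≤ S) : TwoGen (CoxPresented α edges extra) := by
  have hsq : ∀ x, g edges extra x * g edges extra x = 1 := fun x => sq (hnode x)
  obtain ⟨e1, e2, e3⟩ := Star.arm3 (hsq a) (hsq b) (hsq d) (braid (hnode _) (hnode _) hab)
    (braid (hnode _) (hnode _) hbd) (comm (hnode _) (hnode _) had)
  have hc0 : ∀ i, coxLabel edges a (pth i) = 2 → coxLabel edges (pth i) b = 2 → coxLabel edges d (pth i) = 2 →
      (g edges extra a * g edges extra b * g edges extra d) * g edges extra (pth i) =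
        g edges extra (pth i) * (g edges extra a * g edges extra b * g edges extra d) := by
    intro i h1 h2 h3
    have k1 := comm (extra := extra) (hnode _) (hnode _) h1
    have k2 := comm (extra := extra) (hnode _) (hnode _) h2
    have k3 := comm (extra := extra) (hnode _) (hnode _) h3
    rw [mul_assoc, k3, ← mul_assoc, mul_assoc (g edges extra a), ← k2, ← mul_assoc, k1]
    simp only [mul_assoc]
  obtain ⟨X, Y, h1, h2, h3⟩ := Star.star hn (fun i => g edges extra (pth i)) (fun i _ => hsq _)
    (fun i hi => braid (hnode _) (hnode _) (hbr i (by omega)))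
    (fun i j hij hj => comm (hnode _) (hnode _) (hcm i (by omega) j hj hij)) hk2 hkn c hm hc hcz
    (g edges extra a) (g edges extra a * g edges extra b * g edges extra d) (g edges extra b)
    (by rw [pow_two]; exact hsq _) e1
    (fun i hi => comm (hnode _) (hnode _) (hb i hi))
    (hc0 0 ha0 (hb 0 (by omega)) hd0) (hc0 1 ha1 (hb 1 (by omega)) hd1)
    (by
      have hm := Subgroup.mul_mem _ (Subgroup.mul_mem _ (Subgroup.inv_mem _ (Subgroup.subset_closure
        (Set.mem_insert (g edges extra a * g edges extra b * g edges extra d) {g edges extra b})))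
        (Subgroup.subset_closure (Set.mem_insert_of_mem _ (Set.mem_singleton (g edges extra b)))))
        (Subgroup.subset_closure (Set.mem_insert (g edges extra a * g edges extra b * g edges extra d) _))
      rwa [e2] at hm)
    (cube (hnode _) (hnode _) hak) (comm (hnode _) (hnode _) ha0)
  refine ⟨X, Y, eq_top_of_forall _ fun x => ?_⟩
  rcases hall x with rfl | rfl | rfl | ⟨i, hi, rfl⟩
  · rw [← e2]
    exact Subgroup.mul_mem _ (Subgroup.mul_mem _ (Subgroup.inv_mem _ h2) h3) h2
  · exact h3
  · rw [← e3]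
    exact Subgroup.mul_mem _ (Subgroup.mul_mem _ h2 h3) (Subgroup.inv_mem _ h2)
  · exact h1 i hi

end Cfsg.Agent.H440.TwoGen.Cox
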