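import Cfsg.Agent.H440.TwoGen.Cox
import Cfsg.Prelude.Def_Spor_Fi22
import Cfsg.Prelude.Def_Spor_Fi23
import Cfsg.Prelude.Def_Spor_B

/-!
# `Fi₂₂`, `Fi₂₃` and the Baby Monster are 2-generated (helper440)
-/

set_option autoImplicit false

namespace Cfsg.Agent.H440.TwoGen.CoxInst

open Cfsg.Spor Equiv Equiv.Perm

/-- path of Fi22 -/
def p22 (i : ℕ) : Fi22.Gen := [Fi22.Gen.a, .b, .c, .d, .e, .f, .g].getD i .a

theorem fi22 : TwoGen Fi22 := by
  refine Cox.twoGen_arm2 (n := 7) (by norm_num) p22 3 (by norm_num) (by norm_num) Fi22.Gen.h Fi22.Gen.i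
    (by intro x; cases x <;> decide) (by decide) (by decide) (by decide) (by decide) (by decide) (by decide)
    (by intro x; cases x <;> first | exact Or.inl rfl | exact Or.inr (Or.inl rfl) | exact Or.inr (Or.inr (by decide)))
    (swap (⟨0, by norm_num⟩ : Fin (7 + 1)) ⟨1, by norm_num⟩ * finRotate (7 + 1)) (m := 7) (by decide) (by decide)
    (fun S h1 h2 => Star.cz_even (by norm_num) S h1 h2)

/-- path of Fi23 -/
def p23 (i : ℕ) : Fi23.Gen := [Fi23.Gen.a, .b, .c, .d, .e, .f, .g, .j].getD i .a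

theorem fi23 : TwoGen Fi23 := by
  refine Cox.twoGen_arm2 (n := 8) (by norm_num) p23 3 (by norm_num) (by norm_num) Fi23.Gen.h Fi23.Gen.i
    (by intro x; cases x <;> decide) (by decide) (by decide) (by decide) (by decide) (by decide) (by decide)
    (by intro x; cases x <;> first | exact Or.inl rfl | exact Or.inr (Or.inl rfl) | exact Or.inr (Or.inr (by decide)))
    (finRotate (8 + 1)) (m := 9) (by decide) (by decide)
    (fun S h1 h2 => Star.cz_odd (by norm_num) S h1 h2)

/-- path of B -/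
def pB (i : ℕ) : BabyMonster.Gen := [BabyMonster.Gen.t1, .t2, .t3, .t4, .t5, .t6, .t7, .t8].getD i .t1

theorem b : TwoGen BabyMonster := by
  refine Cox.twoGen_arm3 (n := 8) (by norm_num) pB 4 (by norm_num) (by norm_num) BabyMonster.Gen.t9
    BabyMonster.Gen.t10 BabyMonster.Gen.t11
    (by intro x; cases x <;> decide) (by decide) (by decide) (by decide) (by decide) (by decide) (by decide)
    (by decide) (by decide) (by decide) (by decide) (by decide)
    (by intro x; cases x <;> first | exact Or.inl rfl | exact Or.inr (Or.inl rfl) | exact Or.inr (Or.inr (Or.inl rfl)) | exact Or.inr (Or.inr (Or.inr (by decide))))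
    (finRotate (8 + 1)) (m := 9) (by decide) (by decide)
    (fun S h1 h2 => Star.cz_odd (by norm_num) S h1 h2)

/-- **`Fi₂₂`** -/
theorem twoGen_fi22 {G : Type*} [Group G] (h : Cfsg.Spor.IsoFi22 G) : TwoGen G := fi22.of_equiv' h

/-- **`Fi₂₃`** -/
theorem twoGen_fi23 {G : Type*} [Group G] (h : Cfsg.Spor.IsoFi23 G) : TwoGen G := fi23.of_equiv' h

/-- **the Baby Monster** -/
theorem twoGen_b {G : Type*} [Group G] (h : Cfsg.Spor.IsoB G) : TwoGen G := b.of_equiv' h

end Cfsg.Agent.H440.TwoGen.CoxInst
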