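import Cfsg.Agent.H440.TwoGen.Basic
import Cfsg.Agent.H136.TwoGen
import Cfsg.Agent.CharactersDeep.SchurAltPerm

/-!
# The alternating groups of degree at least five are 2-generated (helper440)
-/

set_option autoImplicit false

namespace Cfsg.Agent.H440.TwoGen.Alt

open Equiv Equiv.Perm Subgroup
open Cfsg.Agent.CharactersDeep.SchurAltPerm

/-- the point `i` of `Fin n` -/
theorem ne_mk {n i j : ℕ} (hi : i < n) (hj : j < n) (h : i ≠ j) : (⟨i, hi⟩ : Fin n) ≠ ⟨j, hj⟩ := by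
  intro h'; exact h (congrArg Fin.val h')

theorem x_fix {α : Type*} [DecidableEq α] {a b c d : α} (ha : d ≠ a) (hb : d ≠ b) (hc : d ≠ c) :
    x a b c d = d := by
  rw [x_def, Perm.mul_apply, swap_apply_of_ne_of_ne ha hb, swap_apply_of_ne_of_ne ha hc]

variable {n : ℕ}

theorem odd_case (hn : 5 ≤ n) (S : Subgroup (Perm (Fin n))) (c : Perm (Fin n))
    (hc : ∀ i (h : i + 1 < n), c ⟨i, by omega⟩ = ⟨i + 1, h⟩) (hcS : c ∈ S)
    (hx : x (⟨0, by omega⟩ : Fin n) ⟨1, by omega⟩ ⟨2, by omega⟩ ∈ S) : alternatingGroup (Fin n) ≤ S := by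
  have h1 : ∀ i (h : i + 2 < n), x (⟨i, by omega⟩ : Fin n) ⟨i + 1, by omega⟩ ⟨i + 2, h⟩ ∈ S := by
    intro i
    induction i with
    | zero => intro _; exact hx
    | succ k ih =>
      intro h
      have h2 := ih (by omega)
      have h3 := S.mul_mem (S.mul_mem hcS h2) (S.inv_mem hcS)
      rw [conj_x, hc k (by omega), hc (k + 1) (by omega), hc (k + 2) (by omega)] at h3
      exact h3
  have h4 : ∀ j, 2 ≤ j → ∀ (h : j < n), x (⟨0, by omega⟩ : Fin n) ⟨1, by omega⟩ ⟨j, h⟩ ∈ S := by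
    intro j hj
    induction j, hj using Nat.le_induction with
    | base => intro _; exact hx
    | succ j hj ih =>
      intro h
      have h2 := ih (by omega)
      rcases Nat.lt_or_ge 2 j with h5 | h5
      · -- conjugate by `(j-1, j, j+1)`
        obtain ⟨k, rfl⟩ : ∃ k, j = k + 1 := ⟨j - 1, by omega⟩
        have h6 := h1 k (by omega)
        have h3 := S.mul_mem (S.mul_mem h6 h2) (S.inv_mem h6)
        rw [conj_x] at h3
        have e0 : x (⟨k, by omega⟩ : Fin n) ⟨k + 1, by omega⟩ ⟨k + 2, by omega⟩ ⟨0, by omega⟩ = ⟨0, by omega⟩ :=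
          x_fix (ne_mk _ _ (by omega)) (ne_mk _ _ (by omega)) (ne_mk _ _ (by omega))
        have e1 : x (⟨k, by omega⟩ : Fin n) ⟨k + 1, by omega⟩ ⟨k + 2, by omega⟩ ⟨1, by omega⟩ = ⟨1, by omega⟩ :=
          x_fix (ne_mk _ _ (by omega)) (ne_mk _ _ (by omega)) (ne_mk _ _ (by omega))
        have e2 : x (⟨k, by omega⟩ : Fin n) ⟨k + 1, by omega⟩ ⟨k + 2, by omega⟩ ⟨k + 1, by omega⟩ = ⟨k + 2, by omega⟩ := by
          rw [x_def, Perm.mul_apply, swap_apply_right, swap_apply_left]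
        rw [e0, e1, e2] at h3
        exact h3
      · -- `j = 2`: conjugate by `(2, 3, 4)`
        obtain rfl : j = 2 := by omega
        have h6 := h1 2 (by omega)
        have h3 := S.mul_mem (S.mul_mem h6 h2) (S.inv_mem h6)
        rw [conj_x] at h3
        have e0 : x (⟨2, by omega⟩ : Fin n) ⟨2 + 1, by omega⟩ ⟨2 + 2, by omega⟩ ⟨0, by omega⟩ = ⟨0, by omega⟩ :=
          x_fix (ne_mk _ _ (by omega)) (ne_mk _ _ (by omega)) (ne_mk _ _ (by omega))
        have e1 : x (⟨2, by omega⟩ : Fin n) ⟨2 + 1, by omega⟩ ⟨2 + 2, by omega⟩ ⟨1, by omega⟩ = ⟨1, by omega⟩ :=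
          x_fix (ne_mk _ _ (by omega)) (ne_mk _ _ (by omega)) (ne_mk _ _ (by omega))
        have e2 : x (⟨2, by omega⟩ : Fin n) ⟨2 + 1, by omega⟩ ⟨2 + 2, by omega⟩ ⟨2, by omega⟩ = ⟨2 + 1, by omega⟩ := by
          rw [x_def, Perm.mul_apply, swap_apply_left,
            swap_apply_of_ne_of_ne (ne_mk _ _ (by omega)) (ne_mk _ _ (by omega))]
        rw [e0, e1, e2] at h3
        exact h3
  refine alternating_le_closure_x (o := (⟨0, by omega⟩ : Fin n)) (l := ⟨1, by omega⟩) (ne_mk _ _ (by omega)) S ?_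
  rintro ⟨j, hj⟩ h5 h6
  have h7 : j ≠ 0 := fun h => h5 (Fin.ext h)
  have h8 : j ≠ 1 := fun h => h6 (Fin.ext h)
  exact h4 j (by omega) hj

theorem even_case (hn : 5 ≤ n) (S : Subgroup (Perm (Fin n))) (c : Perm (Fin n))
    (hc0 : c ⟨0, by omega⟩ = ⟨0, by omega⟩)
    (hc : ∀ i (h : i + 1 < n), 1 ≤ i → c ⟨i, by omega⟩ = ⟨i + 1, h⟩) (hcS : c ∈ S)
    (hx : x (⟨0, by omega⟩ : Fin n) ⟨1, by omega⟩ ⟨2, by omega⟩ ∈ S) : alternatingGroup (Fin n) ≤ S := by
  have h1 : ∀ i (h : i + 2 < n), x (⟨0, by omega⟩ : Fin n) ⟨i + 1, by omega⟩ ⟨i + 2, h⟩ ∈ S := by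
    intro i
    induction i with
    | zero => intro _; exact hx
    | succ k ih =>
      intro h
      have h2 := ih (by omega)
      have h3 := S.mul_mem (S.mul_mem hcS h2) (S.inv_mem hcS)
      rw [conj_x, hc0, hc (k + 1) (by omega) (by omega), hc (k + 2) (by omega) (by omega)] at h3
      exact h3
  have h4 : ∀ j, 2 ≤ j → ∀ (h : j < n), x (⟨0, by omega⟩ : Fin n) ⟨1, by omega⟩ ⟨j, h⟩ ∈ S := by
    intro j hj
    induction j, hj using Nat.le_induction with
    | base => intro _; exact hx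
    | succ j hj ih =>
      intro h
      have h2 := ih (by omega)
      obtain ⟨k, rfl⟩ : ∃ k, j = k + 1 := ⟨j - 1, by omega⟩
      have h6 := h1 k (by omega)
      have h3 := S.mul_mem h6 h2
      rw [x_def, x_def, mul_assoc, ← mul_assoc (swap _ _) (swap _ _) (swap _ _), swap_mul_self, one_mul,
        ← x_def] at h3
      exact h3
  refine alternating_le_closure_x (o := (⟨0, by omega⟩ : Fin n)) (l := ⟨1, by omega⟩) (ne_mk _ _ (by omega)) S ?_
  rintro ⟨j, hj⟩ h5 h6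
  have h7 : j ≠ 0 := fun h => h5 (Fin.ext h)
  have h8 : j ≠ 1 := fun h => h6 (Fin.ext h)
  exact h4 j (by omega) hj

/-- **`A_n` is generated by two elements, `n ≥ 5`.** -/
theorem twoGen_fin (hn : 5 ≤ n) : TwoGen (alternatingGroup (Fin n)) := by
  obtain ⟨m, rfl⟩ : ∃ m, n = m + 1 := ⟨n - 1, by omega⟩
  have hrot : ∀ i (h : i + 1 < m + 1), finRotate (m + 1) ⟨i, by omega⟩ = ⟨i + 1, h⟩ := by
    intro i h
    exact finRotate_of_lt (by omega)
  have h3 : IsThreeCycle (x (⟨0, by omega⟩ : Fin (m + 1)) ⟨1, by omega⟩ ⟨2, by omega⟩) :=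
    x_isThreeCycle (ne_mk _ _ (by omega)) (ne_mk _ _ (by omega)) (ne_mk _ _ (by omega))
  apply Cfsg.Agent.H136.TwoGen.of_ambient
  rcases Nat.even_or_odd m with hm | hm
  · -- `n` odd: the `n`-cycle is even
    refine ⟨finRotate (m + 1), x (⟨0, by omega⟩ : Fin (m + 1)) ⟨1, by omega⟩ ⟨2, by omega⟩, ?_,
      h3.mem_alternatingGroup, ?_⟩
    · rw [mem_alternatingGroup, sign_finRotate, Nat.add_sub_cancel, hm.neg_one_pow]
    · exact odd_case hn _ _ hrot (subset_closure (Set.mem_insert _ _))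
        (subset_closure (Set.mem_insert_of_mem _ (Set.mem_singleton _)))
  · refine ⟨swap ⟨0, by omega⟩ ⟨1, by omega⟩ * finRotate (m + 1),
      x (⟨0, by omega⟩ : Fin (m + 1)) ⟨1, by omega⟩ ⟨2, by omega⟩, ?_, h3.mem_alternatingGroup, ?_⟩
    · rw [mem_alternatingGroup, Perm.sign_mul, sign_swap (ne_mk _ _ (by omega)), sign_finRotate,
        Nat.add_sub_cancel, hm.neg_one_pow,
        neg_one_mul, neg_neg]
    · refine even_case hn _ _ ?_ ?_ (subset_closure (Set.mem_insert _ _))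
        (subset_closure (Set.mem_insert_of_mem _ (Set.mem_singleton _)))
      · rw [Perm.mul_apply, hrot 0 (by omega)]
        exact swap_apply_right _ _
      · intro i h hi
        rw [Perm.mul_apply, hrot i h, swap_apply_of_ne_of_ne (ne_mk _ _ (by omega)) (ne_mk _ _ (by omega))]

end Cfsg.Agent.H440.TwoGen.Alt
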