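import Cfsg.Agent.H440.TwoGen.Basic
import Cfsg.Agent.H440.TwoGen.Alt
import Cfsg.Agent.S2530

/-!
# Two-generation of groups generated by nodes of a star diagram with a long path (helper440)

* `exists_hom`: the Coxeter relations of type `A_n` give a homomorphism from the symmetric group;
* `key`: the commuting-coprime trick for a path plus an arm.
-/

set_option autoImplicit false

namespace Cfsg.Agent.H440.TwoGen.Path

open Equiv Equiv.Perm Subgroup
open Cfsg.Agent.CharactersDeep.SchurAltPerm Cfsg.Agent.H440.TwoGen.Alt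

variable {G : Type*} [Group G]

/-- The Coxeter relations of type `A_n` give a homomorphism from the symmetric group `S_{n+1}`. -/
theorem exists_hom (n : ℕ) (p : ℕ → G) (hsq : ∀ i < n, p i * p i = 1)
    (hbr : ∀ i, i + 1 < n → p i * p (i + 1) * p i = p (i + 1) * p i * p (i + 1))
    (hcm : ∀ i j, i + 1 < j → j < n → p i * p j = p j * p i) :
    ∃ φ : Perm (Fin (n + 1)) →* G, ∀ i : Fin n, φ (swap i.castSucc i.succ) = p i := by
  obtain ⟨cs, hcs⟩ := Cfsg.Agent.S2530.result n
  have hbr' : ∀ i, i + 1 < n → (p i * p (i + 1)) ^ 3 = 1 := by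
    intro i hi
    have h1 := hsq i (by omega)
    have h2 := hsq (i + 1) hi
    calc (p i * p (i + 1)) ^ 3 = (p i * p (i + 1) * p i) * (p (i + 1) * p i * p (i + 1)) := by
          simp only [pow_succ, pow_zero, one_mul, mul_assoc]
      _ = (p i * p (i + 1) * p i) * (p i * p (i + 1) * p i) := by rw [hbr i hi]
      _ = p i * p (i + 1) * (p i * p i) * p (i + 1) * p i := by simp only [mul_assoc]
      _ = p i * (p (i + 1) * p (i + 1)) * p i := by rw [h1, mul_one]; simp only [mul_assoc]
      _ = 1 := by rw [h2, mul_one, h1]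
  have hbr'' : ∀ i, i + 1 < n → (p (i + 1) * p i) ^ 3 = 1 := by
    intro i hi
    have h1 := hsq i (by omega)
    have h2 := hsq (i + 1) hi
    have h3 : (p (i + 1) * p i) = (p i * p (i + 1))⁻¹ := by
      rw [mul_inv_rev, inv_eq_of_mul_eq_one_left h1, inv_eq_of_mul_eq_one_left h2]
    rw [h3, inv_pow, hbr' i hi, inv_one]
  have hcm' : ∀ i j, i + 1 < j → j < n → (p i * p j) ^ 2 = 1 := by
    intro i j hij hj
    have h1 := hsq i (by omega)
    have h2 := hsq j hj
    calc (p i * p j) ^ 2 = p i * (p j * p i) * p j := by rw [pow_two]; simp only [mul_assoc]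
      _ = p i * (p i * p j) * p j := by rw [hcm i j hij hj]
      _ = (p i * p i) * (p j * p j) := by simp only [mul_assoc]
      _ = 1 := by rw [h1, h2, one_mul]
  have hcm'' : ∀ i j, i + 1 < j → j < n → (p j * p i) ^ 2 = 1 := by
    intro i j hij hj
    rw [← hcm i j hij hj]
    exact hcm' i j hij hj
  have hlift : (CoxeterMatrix.A n).IsLiftable (fun i : Fin n => p i) := by
    intro i j
    show (p i * p j) ^ ((CoxeterMatrix.A n).M i j) = 1
    simp only [CoxeterMatrix.A, Matrix.of_apply]
    by_cases hij : i = j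
    · subst hij
      rw [if_pos rfl, pow_one]
      exact hsq i i.isLt
    rw [if_neg hij]
    have hne : (i : ℕ) ≠ j := fun h => hij (Fin.ext h)
    by_cases h1 : (j : ℕ) + 1 = i ∨ (i : ℕ) + 1 = j
    · rw [if_pos h1]
      rcases h1 with h1 | h1
      · rw [← h1]
        exact hbr'' j (by have := i.isLt; omega)
      · rw [← h1]
        exact hbr' i (by have := j.isLt; omega)
    · rw [if_neg h1]
      push Not at h1
      rcases Nat.lt_or_ge (i : ℕ) j with h2 | h2
      · exact hcm' i j (by omega) j.isLt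
      · exact hcm'' j i (by omega) i.isLt
  refine ⟨cs.lift ⟨fun i : Fin n => p i, hlift⟩, fun i => ?_⟩
  rw [← hcs i]
  exact cs.lift_apply_simple hlift i

/-- an element commuting with the images of the adjacent transpositions commutes with the whole image -/
theorem commute_range {n : ℕ} (φ : Perm (Fin (n + 1)) →* G) {v : G}
    (h : ∀ i : Fin n, φ (swap i.castSucc i.succ) * v = v * φ (swap i.castSucc i.succ))
    (g : Perm (Fin (n + 1))) : φ g * v = v * φ g := by
  have h1 : g ∈ Submonoid.closure (Set.range fun i : Fin n => swap i.castSucc i.succ) := by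
    rw [mclosure_swap_castSucc_succ]; trivial
  induction h1 using Submonoid.closure_induction with
  | mem x hx =>
    obtain ⟨i, rfl⟩ := hx
    exact h i
  | one => rw [map_one, one_mul, mul_one]
  | mul x y _ _ hx hy =>
    rw [map_mul, mul_assoc, hy, ← mul_assoc, hx, mul_assoc]

/-- The commuting-coprime trick. -/
theorem key {N : ℕ} (φ : Perm (Fin N) →* G) (c z s t : Perm (Fin N)) {m : ℕ}
    (hcz : ∀ S : Subgroup (Perm (Fin N)), c ∈ S → z ∈ S → alternatingGroup (Fin N) ≤ S)
    (hm : Nat.Coprime m 2) (hc : c ^ m = 1) (hz : z ^ 3 = 1) (u v q : G)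
    (hcv : φ c * v = v * φ c) (hzu : u * φ z = φ z * u) (hv : v ^ 2 = 1) (hu : u ^ 4 = 1)
    (hq : q ∈ closure ({u, v} : Set G)) (ht : t * t = 1) (hst : s * t = t * s)
    (hsign : sign (s * t) = 1) (htsign : sign t = -1)
    (hqs : (q * φ s) ^ 3 = 1) (hqt : q * φ t = φ t * q) :
    φ.range ≤ closure ({φ c * v, u * φ z} : Set G) ∧ u ∈ closure ({φ c * v, u * φ z} : Set G) ∧
      v ∈ closure ({φ c * v, u * φ z} : Set G) := by
  set S := closure ({φ c * v, u * φ z} : Set G) with hS
  have h1 : φ c * v ∈ S := subset_closure (Set.mem_insert _ _)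
  have h2 : u * φ z ∈ S := subset_closure (Set.mem_insert_of_mem _ (Set.mem_singleton _))
  have hc' : φ c ^ m = 1 := by rw [← map_pow, hc, map_one]
  have hz' : φ z ^ 3 = 1 := by rw [← map_pow, hz, map_one]
  have hcS : φ c ∈ S := left_mem_of_pow S hcv hc' hv hm h1
  have hvS : v ∈ S := right_mem_of_pow S hcv hc' hv hm h1
  have huS : u ∈ S := left_mem_of_pow S hzu hu hz' (by decide) h2
  have hzS : φ z ∈ S := right_mem_of_pow S hzu hu hz' (by decide) h2
  have hA : alternatingGroup (Fin N) ≤ S.comap φ := hcz _ hcS hzS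
  have hqS : q ∈ S := by
    have : closure ({u, v} : Set G) ≤ S := by
      rw [closure_le]
      rintro g (rfl | rfl)
      · exact huS
      · exact hvS
    exact this hq
  have hst' : φ (s * t) ∈ S := hA (mem_alternatingGroup.2 hsign)
  -- `(q s t) ^ 3 = t`
  have htS : φ t ∈ S := by
    have h3 : q * φ (s * t) ∈ S := S.mul_mem hqS hst'
    have h4 : (q * φ (s * t)) ^ 3 = φ t := by
      have h5 : q * φ (s * t) = (q * φ s) * φ t := by rw [map_mul, mul_assoc]
      have h6 : Commute (q * φ s) (φ t) := by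
        show q * φ s * φ t = φ t * (q * φ s)
        rw [mul_assoc, ← map_mul, hst, map_mul, ← mul_assoc, hqt, mul_assoc]
      rw [h5, h6.mul_pow, hqs, one_mul, pow_succ, pow_two, ← map_mul, ht, map_one, one_mul]
    rw [← h4]
    exact S.pow_mem h3 3
  refine ⟨?_, huS, hvS⟩
  rintro _ ⟨g, rfl⟩
  rcases Int.units_eq_one_or (sign g) with hg | hg
  · exact hA (mem_alternatingGroup.2 hg)
  · have h7 : g * t ∈ S.comap φ := hA (mem_alternatingGroup.2 (by
      rw [Perm.sign_mul, hg, htsign]; decide))
    have h8 : φ (g * t) ∈ S := h7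
    have h9 : φ g = φ (g * t) * φ t := by rw [← map_mul, mul_assoc, ht, mul_one]
    rw [h9]
    exact S.mul_mem h8 htS

end Cfsg.Agent.H440.TwoGen.Path
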