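import Cfsg.Agent.H440.TwoGen.Basic
import Cfsg.Agent.S2402
import Cfsg.Agent.S2403
import Cfsg.Prelude.Def_Classical

/-!
# `PSL_n(q)` is 2-generated (helper440), from S2402 and S2403 (helper135)
-/

set_option autoImplicit false

namespace Cfsg.Agent.H440.TwoGen.Psl

open Matrix

variable {K : Type*} [Field K] {n : ℕ}

/-- the monomial matrix of the long cycle -/
def W (K : Type*) [Field K] (n : ℕ) : Matrix (Fin (n + 1)) (Fin (n + 1)) K :=
  Matrix.of (fun i j => if j.val = i.val + 1 then 1 else if i.val = n ∧ j.val = 0 then (-1) ^ n else 0)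

theorem det_W : (W K n).det = 1 := by
  have h : W K n = Matrix.diagonal (fun i : Fin (n + 1) => if i = Fin.last n then (-1 : K) ^ n else 1) *
      (finRotate (n + 1)).permMatrix K := by
    ext i j
    rw [Matrix.diagonal_mul, Equiv.Perm.permMatrix, PEquiv.toMatrix_apply]
    show (if j.val = i.val + 1 then (1 : K) else if i.val = n ∧ j.val = 0 then (-1) ^ n else 0) = _
    have hmem : (j ∈ (Equiv.toPEquiv (finRotate (n + 1))) i) ↔ finRotate (n + 1) i = j := by
      rw [Equiv.toPEquiv_apply, Option.mem_some_iff]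
    simp only [hmem]
    by_cases hi : i = Fin.last n
    · subst hi
      have h1 : ¬ (j.val = (Fin.last n).val + 1) := by
        rw [Fin.val_last]; omega
      rw [if_neg h1, if_pos rfl, finRotate_last]
      by_cases hj : j = 0
      · subst hj
        rw [if_pos ⟨Fin.val_last n, rfl⟩, if_pos rfl, mul_one]
      · rw [if_neg (fun h2 => hj (Fin.ext h2.2)), if_neg (fun h2 => hj h2.symm), mul_zero]
    · have hlt : i.val < n := by
        have := i.isLt
        have h2 : i.val ≠ n := fun h => hi (Fin.ext h)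
        omega
      have h3 : finRotate (n + 1) i = ⟨i.val + 1, by omega⟩ := finRotate_of_lt hlt
      rw [if_neg hi, one_mul, h3]
      by_cases hj : j.val = i.val + 1
      · rw [if_pos hj, if_pos (Fin.ext hj.symm)]
      · rw [if_neg hj, if_neg (fun h2 => by omega), if_neg (fun h2 => hj (by rw [← h2]))]
  rw [h, Matrix.det_mul, Matrix.det_diagonal, Matrix.det_permutation, sign_finRotate, Nat.add_sub_cancel]
  rw [Finset.prod_ite_eq' Finset.univ (Fin.last n) (fun _ => (-1 : K) ^ n), if_pos (Finset.mem_univ _)]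
  push_cast
  rw [← mul_pow, neg_one_mul, neg_neg, one_pow]

theorem det_h (hn : 1 ≤ n) (k : Kˣ) : (Matrix.diagonal (fun i : Fin (n + 1) =>
    if i.val = 0 then (k : K) else if i.val = 1 then ((k⁻¹ : Kˣ) : K) else 1)).det = 1 := by
  obtain ⟨m, rfl⟩ : ∃ m, n = m + 1 := ⟨n - 1, by omega⟩
  rw [Matrix.det_diagonal, Fin.prod_univ_succ, Fin.prod_univ_succ]
  rw [Finset.prod_eq_one]
  · simp
  · intro i _
    rw [if_neg (by simp), if_neg (by simp)]

/-- generation of the quotient by the centre from generation modulo the centre -/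
theorem twoGen_of_sup {G : Type*} [Group G] (a b : G)
    (h : Subgroup.closure ({a, b} : Set G) ⊔ Subgroup.center G = ⊤) :
    TwoGen (G ⧸ Subgroup.center G) := by
  refine ⟨QuotientGroup.mk' (Subgroup.center G) a, QuotientGroup.mk' (Subgroup.center G) b, ?_⟩
  have h1 : (QuotientGroup.mk' (Subgroup.center G)) '' {a, b} =
      {QuotientGroup.mk' (Subgroup.center G) a, QuotientGroup.mk' (Subgroup.center G) b} :=
    Set.image_pair _ a b
  rw [← h1, ← MonoidHom.map_closure]
  have h2 : (Subgroup.closure ({a, b} : Set G) ⊔ Subgroup.center G).map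
      (QuotientGroup.mk' (Subgroup.center G)) = ⊤ := by
    rw [h, Subgroup.map_top_of_surjective _ (QuotientGroup.mk'_surjective _)]
  rw [Subgroup.map_sup] at h2
  rw [← h2]
  refine (sup_eq_left.2 ?_).symm
  rw [QuotientGroup.map_mk'_self]
  exact bot_le

theorem twoGen_psl [Fintype K] (hn : 1 ≤ n) :
    TwoGen (Matrix.ProjectiveSpecialLinearGroup (Fin (n + 1)) K) := by
  have h01 : (0 : Fin (n + 1)) ≠ 1 := by
    obtain ⟨m, rfl⟩ : ∃ m, n = m + 1 := ⟨n - 1, by omega⟩
    exact Fin.zero_ne_one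
  obtain ⟨w, hw⟩ : ∃ w : Matrix.SpecialLinearGroup (Fin (n + 1)) K,
      (w : Matrix (Fin (n + 1)) (Fin (n + 1)) K) = W K n := ⟨⟨W K n, det_W⟩, rfl⟩
  obtain ⟨x, hx⟩ : ∃ x : Matrix.SpecialLinearGroup (Fin (n + 1)) K,
      (x : Matrix (Fin (n + 1)) (Fin (n + 1)) K) = Matrix.transvection (0 : Fin (n + 1)) (1 : Fin (n + 1)) 1 :=
    ⟨Matrix.SpecialLinearGroup.transvection h01 1, rfl⟩
  rcases Nat.lt_or_ge 3 (Fintype.card K) with hK | hK
  · obtain ⟨k, hk⟩ := IsCyclic.exists_generator (α := Kˣ)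
    exact twoGen_of_sup _ _ (Cfsg.Agent.S2402.result hK n hn k hk
      ⟨Matrix.diagonal (fun i : Fin (n + 1) =>
        if i.val = 0 then (k : K) else if i.val = 1 then ((k⁻¹ : Kˣ) : K) else 1), det_h hn k⟩ x w rfl hx hw)
  · exact twoGen_of_sup _ _ (Cfsg.Agent.S2403.result hK n hn x w hx hw)

/-- **`PSL_n(q)`** -/
theorem twoGen {G : Type*} [Group G] (h : Cfsg.IsPSL G) : TwoGen G := by
  obtain ⟨F, _, _, n, hn, -, e⟩ := h
  obtain ⟨m, rfl⟩ : ∃ m, n = m + 1 := ⟨n - 1, by omega⟩
  exact (twoGen_psl (K := F) (n := m) (by omega)).of_equiv' e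

end Cfsg.Agent.H440.TwoGen.Psl
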