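import Cfsg.Agent.H440.TwoGen.Basic
import Cfsg.Agent.H136.TwoGen
import Cfsg.Agent.LieRecognition.SzMatrix

/-!
# The Suzuki groups `Cfsg.Lie.Sz` are 2-generated (helper440)

Same argument as S2410 (helper136), for the other model of the group.
-/

set_option autoImplicit false

namespace Cfsg.Agent.H440.TwoGen.Suz

open scoped MatrixGroups Matrix
open Cfsg.Agent.LieRecognition.SzMatrix

variable {F : Type*} [Field F] {θ : F →+* F} {e : ℕ}

theorem eq_one_of_mul_theta (H : Good F θ e) {t : F} (h : t * θ t = 1) : t = 1 := by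
  have ht : t ≠ 0 := by
    rintro rfl
    rw [zero_mul] at h
    exact zero_ne_one h
  have h1 : θ t = t⁻¹ := eq_inv_of_mul_eq_one_right h
  have h2 : θ (θ t) = t := by rw [h1, map_inv₀, h1, inv_inv]
  rw [H.sq] at h2
  have h3 : t * (t - 1) = 0 := by linear_combination h2
  rcases mul_eq_zero.1 h3 with h4 | h4
  · exact absurd h4 ht
  · exact sub_eq_zero.1 h4

theorem eq_one_of_theta_eq_sq (H : Good F θ e) {t : F} (ht : t ≠ 0) (h : θ t = t ^ 2) : t = 1 := by
  have h2 : θ (θ t) = t ^ 4 := by rw [h, map_pow, h]; ring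
  rw [H.sq] at h2
  have h3 : (t ^ 2) * ((t - 1) ^ 2) = 0 := by
    linear_combination (-1 : F) * h2 + (-t ^ 3 + t ^ 2) * H.two
  rcases mul_eq_zero.1 h3 with h4 | h4
  · exact absurd (pow_eq_zero_iff (by norm_num) |>.1 h4) ht
  · exact sub_eq_zero.1 (pow_eq_zero_iff (by norm_num) |>.1 h4)

theorem surj_mul_theta [Finite F] (H : Good F θ e) (x : F) : ∃ a : F, a * θ a = x := by
  have hinj : Function.Injective (fun a : F => a * θ a) := by
    intro a b h
    simp only at h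
    by_cases hb : b = 0
    · rw [hb, zero_mul] at h
      rw [hb]
      rcases mul_eq_zero.1 h with h1 | h1
      · exact h1
      · exact (map_eq_zero θ).1 h1
    · have hb' : θ b ≠ 0 := fun h0 => hb ((map_eq_zero θ).1 h0)
      have h1 : (a / b) * θ (a / b) = 1 := by
        rw [map_div₀, div_mul_div_comm, h, div_self (mul_ne_zero hb hb')]
      have h2 := eq_one_of_mul_theta H h1
      rwa [div_eq_one_iff_eq hb] at h2
  exact (Finite.injective_iff_surjective.1 hinj) x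

theorem surj_torus [Finite F] (H : Good F θ e) {x : F} (hx : x ≠ 0) :
    ∃ l : Fˣ, (l : F) ^ 2 * (θ (l : F))⁻¹ = x := by
  let f : Fˣ →* Fˣ :=
    { toFun := fun l => l ^ 2 * (Units.map (θ : F →* F) l)⁻¹
      map_one' := by simp
      map_mul' := by
        intro a b
        rw [map_mul, mul_pow, mul_inv]
        exact mul_mul_mul_comm _ _ _ _ }
  have hinj : Function.Injective f := by
    rw [injective_iff_map_eq_one]
    intro l hl
    have h1 : (l : F) ^ 2 * (θ (l : F))⁻¹ = 1 := by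
      have := congrArg (Units.val) hl
      simpa [f] using this
    have h2 : θ (l : F) = (l : F) ^ 2 := by
      have h3 := theta_ne_zero θ l
      field_simp at h1
      exact h1.symm
    exact Units.ext (eq_one_of_theta_eq_sq H l.ne_zero h2)
  obtain ⟨l, hl⟩ := (Finite.injective_iff_surjective.1 hinj) (Units.mk0 x hx)
  refine ⟨l, ?_⟩
  have := congrArg (Units.val) hl
  simpa [f] using this

theorem main [Finite F] (H : Good F θ e) (hF : ∃ t : F, t ≠ 0 ∧ t ≠ 1) :
    ∃ a b : GL (Fin 4) F, a ∈ Cfsg.Lie.Sz F e ∧ b ∈ Cfsg.Lie.Sz F e ∧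
      Cfsg.Lie.Sz F e ≤ Subgroup.closure {a, b} := by
  obtain ⟨k, hk⟩ := IsCyclic.exists_generator (α := Fˣ)
  refine ⟨H.D k, H.U 1 0 * W F, H.D_mem k, Subgroup.mul_mem _ (H.U_mem 1 0) H.W_mem, ?_⟩
  set M := Subgroup.closure {H.D k, H.U 1 0 * W F} with hM
  have ha : H.D k ∈ M := Subgroup.subset_closure (by simp)
  have hb : H.U 1 0 * W F ∈ M := Subgroup.subset_closure (by simp)
  -- the whole torus
  have hD : ∀ l : Fˣ, H.D l ∈ M := by
    let f : Fˣ →* GL (Fin 4) F := ⟨⟨H.D, H.D_one⟩, fun x y => (H.D_mul x y).symm⟩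
    intro l
    obtain ⟨n, rfl⟩ := Subgroup.mem_zpowers_iff.1 (hk l)
    have : H.D (k ^ n) = H.D k ^ n := map_zpow f k n
    rw [this]
    exact Subgroup.zpow_mem _ ha n
  have hconj : ∀ (l : Fˣ) (c d : F), H.U c d ∈ M → H.U (c * l ^ 2 * (θ l)⁻¹) (d * θ l) ∈ M := by
    intro l c d h
    have h1 : H.U (c * l ^ 2 * (θ l)⁻¹) (d * θ l) = H.D l * H.U c d * (H.D l)⁻¹ := by
      rw [H.D_mul_U]; group
    rw [h1]
    exact M.mul_mem (M.mul_mem (hD l) h) (M.inv_mem (hD l))
  have hWW : (W F)⁻¹ = W F := inv_eq_of_mul_eq_one_left W_mul_W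
  -- a unipotent element with nonzero first coordinate
  obtain ⟨c, d, hc, hcd⟩ : ∃ c d : F, c ≠ 0 ∧ H.U c d ∈ M := by
    have h1 : (H.U 1 0 * W F) * H.D k * (H.U 1 0 * W F)⁻¹ * H.D k ∈ M :=
      M.mul_mem (M.mul_mem (M.mul_mem hb ha) (M.inv_mem hb)) ha
    have h2 : (H.U 1 0 * W F) * H.D k * (H.U 1 0 * W F)⁻¹ * H.D k =
        H.U 1 0 * (H.D k⁻¹ * (H.U 1 0)⁻¹ * H.D k) := by
      rw [mul_inv_rev, hWW]
      calc H.U 1 0 * W F * H.D k * (W F * (H.U 1 0)⁻¹) * H.D k
          = H.U 1 0 * (W F * H.D k) * W F * (H.U 1 0)⁻¹ * H.D k := by group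
        _ = H.U 1 0 * H.D k⁻¹ * (W F * W F) * (H.U 1 0)⁻¹ * H.D k := by rw [H.W_mul_D]; group
        _ = H.U 1 0 * (H.D k⁻¹ * (H.U 1 0)⁻¹ * H.D k) := by rw [W_mul_W]; group
    rw [h2, H.U_inv, H.D_mul_U, mul_assoc (H.U _ _) (H.D k⁻¹) (H.D k), H.D_mul, inv_mul_cancel, H.D_one, mul_one,
      H.U_mul] at h1
    refine ⟨_, _, ?_, h1⟩
    intro h0
    -- `k⁻² θ k = 1`
    have h3 : ((k⁻¹ : Fˣ) : F) ^ 2 * (θ ((k⁻¹ : Fˣ) : F))⁻¹ = 1 := by
      have := H.neg_eq (1 : F)
      linear_combination h0 + this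
    have h4 : θ ((k⁻¹ : Fˣ) : F) = ((k⁻¹ : Fˣ) : F) ^ 2 := by
      have h3' := theta_ne_zero θ k⁻¹
      generalize θ ((k⁻¹ : Fˣ) : F) = y at *
      field_simp at h3
      exact h3.symm
    have h5 := eq_one_of_theta_eq_sq H (k⁻¹).ne_zero h4
    have h6 : k = 1 := by
      rw [← inv_inv k, show k⁻¹ = 1 from Units.ext h5, inv_one]
    obtain ⟨t, ht0, ht1⟩ := hF
    obtain ⟨i, hi⟩ := Subgroup.mem_zpowers_iff.1 (hk (Units.mk0 t ht0))
    rw [h6, one_zpow] at hi
    exact ht1 (congrArg Units.val hi).symm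
  -- all elements of `U`
  have h1 : ∀ a : F, ∃ b : F, H.U a b ∈ M := by
    intro a
    by_cases ha0 : a = 0
    · exact ⟨0, by rw [ha0, H.U_zero]; exact M.one_mem⟩
    · obtain ⟨l, hl⟩ := surj_torus H (div_ne_zero ha0 hc)
      have := hconj l c d hcd
      rw [mul_assoc, hl, mul_div_cancel₀ a hc] at this
      exact ⟨_, this⟩
  have h2 : ∀ x : F, H.U 0 x ∈ M := by
    intro x
    obtain ⟨a, rfl⟩ := surj_mul_theta H x
    obtain ⟨b, hb⟩ := h1 a
    have h3 := M.mul_mem hb hb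
    rw [H.U_mul, H.add_self, H.add_self, zero_add] at h3
    exact h3
  have h3 : ∀ a b : F, H.U a b ∈ M := by
    intro a b
    obtain ⟨b', hb'⟩ := h1 a
    have h4 := M.mul_mem hb' (h2 (b - b'))
    rw [H.U_mul] at h4
    simpa using h4
  have hW : W F ∈ M := by
    have h4 := M.mul_mem (M.inv_mem (h3 1 0)) hb
    rwa [inv_mul_cancel_left] at h4
  intro g hg
  rcases H.bruhat hg with ⟨a, b, l, rfl⟩ | ⟨a, b, c, d, l, rfl⟩
  · exact M.mul_mem (h3 a b) (hD l)
  · exact M.mul_mem (M.mul_mem (h3 a b) hW) (M.mul_mem (h3 c d) (hD l))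

/-- **The Suzuki groups** -/
theorem twoGen {G : Type*} [Group G] (h : Cfsg.Lie.IsoSuzuki G) : TwoGen G := by
  obtain ⟨F, _, _, m, hm, hF, e⟩ := h
  refine TwoGen.of_equiv' e ?_
  refine Cfsg.Agent.H136.TwoGen.of_ambient _ (main (good hF) ?_)
  -- a field with at least three elements
  classical
  by_contra hcon
  push Not at hcon
  have h1 : Fintype.card F ≤ 2 := by
    have h2 : (Finset.univ : Finset F) ⊆ {0, 1} := by
      intro t _
      by_cases ht : t = 0
      · simp [ht]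
      · simp [hcon t ht]
    calc Fintype.card F = (Finset.univ : Finset F).card := rfl
      _ ≤ ({0, 1} : Finset F).card := Finset.card_le_card h2
      _ ≤ 2 := Finset.card_le_two
  rw [hF] at h1
  have : 2 ^ 3 ≤ 2 ^ (2 * m + 1) := Nat.pow_le_pow_right (by norm_num) (by omega)
  omega

end Cfsg.Agent.H440.TwoGen.Suz
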