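import Cfsg.Agent.H440.TwoGen.Basic
import Cfsg.Agent.H440.TwoGen.Alt
import Cfsg.Agent.H440.TwoGen.Psl
import Cfsg.Agent.H440.TwoGen.Suz
import Cfsg.Agent.S2406
import Cfsg.Agent.S2407
import Cfsg.Agent.S2408
import Cfsg.Agent.S2409
import Cfsg.Prelude.Def_Classification2

/-!
# Every known finite simple group is 2-generated: assembly (helper440)

`Rest` collects the families proved elsewhere (helpers 135, 137, 136, 994, ...).
-/

set_option autoImplicit false

universe u

namespace Cfsg.Agent.H440.TwoGen.Assemble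

open Cfsg.Agent.H440.TwoGen

/-- what remains besides `A_n`, `PSL_n`, Suzuki and the twisted groups `²E₆`, `³D₄`, `²F₄`, `²G₂` -/
structure Rest : Prop where
  chev : ∀ (F : Type) [Field F] [Finite F] (D : Cfsg.Lie.ChevalleyDatum),
    D ∈ [Cfsg.Lie.chevG2, Cfsg.Lie.chevB2, Cfsg.Lie.chevD4, Cfsg.Lie.chevF4, Cfsg.Lie.chevE6, Cfsg.Lie.chevE7,
      Cfsg.Lie.chevE8] →
    (D ∈ [Cfsg.Lie.chevB2, Cfsg.Lie.chevG2] → ∃ x : F, x ≠ 0 ∧ x ≠ 1) → TwoGen ↥(D.group F)
  psp : ∀ (F : Type) [Field F] [Fintype F] (m : ℕ), 2 ≤ m → (m = 2 → 2 < Fintype.card F) → TwoGen (Cfsg.PSp m F)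
  psu : ∀ (F : Type) [Field F] [Fintype F] (q : ℕ), IsPrimePow q → Fintype.card F = q ^ 2 → ∀ n : ℕ, 3 ≤ n →
    (n = 3 → q ≠ 2) → TwoGen (Cfsg.PSU n F q)
  odd : ∀ (F : Type) [Field F] [Fintype F], Odd (Fintype.card F) → ∀ m : ℕ, 2 ≤ m →
    TwoGen (Cfsg.POmega F (Cfsg.quadFormOdd m F))
  plus : ∀ (F : Type) [Field F] [Fintype F] (m : ℕ), 4 ≤ m → TwoGen (Cfsg.POmega F (Cfsg.quadFormPlus m F))
  minus : ∀ (F : Type) [Field F] [Fintype F] (m : ℕ), 4 ≤ m → ∀ a b : F,
    (∀ z₁ z₂ : F, z₁ ^ 2 + a * z₁ * z₂ + b * z₂ ^ 2 = 0 → z₁ = 0 ∧ z₂ = 0) →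
    TwoGen (Cfsg.POmega F (Cfsg.quadFormMinus (m - 1) F a b))
  tits : ∀ {G : Type u} [Group G], Cfsg.Lie.IsoTits G → TwoGen G
  spor : ∀ {G : Type u} [Group G], Cfsg.IsSporadicGroup G → TwoGen G

theorem isPrimePow_of_card_sq {F : Type*} [Field F] [Fintype F] {q : ℕ} (h : Fintype.card F = q ^ 2) :
    IsPrimePow q := by
  have h1 : IsPrimePow (Fintype.card F) := FiniteField.isPrimePow_card F
  rw [h] at h1
  exact (isPrimePow_pow_iff (by norm_num)).1 h1

theorem exc (R : Rest.{u}) {G : Type u} [Group G] (h : Cfsg.IsExceptionalLieType G) : TwoGen G := by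
  rcases h with h | h | h | h | h | h | h | h | h | h | h
  · obtain ⟨F, _, _, hF, e⟩ := h
    refine (R.chev F Cfsg.Lie.chevG2 (by simp) ?_).of_equiv' e
    intro _
    by_contra hcon
    push Not at hcon
    classical
    have h1 : Fintype.card F ≤ 2 := by
      have h2 : (Finset.univ : Finset F) ⊆ {0, 1} := by
        intro t _
        by_cases ht : t = 0
        · simp [ht]
        · simp [hcon t ht]
      calc Fintype.card F = (Finset.univ : Finset F).card := rfl
        _ ≤ ({0, 1} : Finset F).card := Finset.card_le_card h2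
        _ ≤ 2 := Finset.card_le_two
    omega
  · obtain ⟨F, _, _, e⟩ := h
    exact (R.chev F Cfsg.Lie.chevF4 (by simp) (fun h => by
      exfalso
      simp only [List.mem_cons, List.not_mem_nil, or_false] at h
      rcases h with h | h <;> exact absurd (congrArg Cfsg.Lie.ChevalleyDatum.rank h) (by decide))).of_equiv' e
  · obtain ⟨F, _, _, e⟩ := h
    exact (R.chev F Cfsg.Lie.chevE6 (by simp) (fun h => by
      exfalso
      simp only [List.mem_cons, List.not_mem_nil, or_false] at h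
      rcases h with h | h <;> exact absurd (congrArg Cfsg.Lie.ChevalleyDatum.rank h) (by decide))).of_equiv' e
  · obtain ⟨F, _, _, e⟩ := h
    exact (R.chev F Cfsg.Lie.chevE7 (by simp) (fun h => by
      exfalso
      simp only [List.mem_cons, List.not_mem_nil, or_false] at h
      rcases h with h | h <;> exact absurd (congrArg Cfsg.Lie.ChevalleyDatum.rank h) (by decide))).of_equiv' e
  · obtain ⟨F, _, _, e⟩ := h
    exact (R.chev F Cfsg.Lie.chevE8 (by simp) (fun h => by
      exfalso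
      simp only [List.mem_cons, List.not_mem_nil, or_false] at h
      rcases h with h | h <;> exact absurd (congrArg Cfsg.Lie.ChevalleyDatum.rank h) (by decide))).of_equiv' e
  · obtain ⟨K, _, _, q, hq, hK, e⟩ := h
    exact TwoGen.of_equiv' e (Cfsg.Agent.S2406.result hq hK)
  · obtain ⟨K, _, _, q, hq, hK, e⟩ := h
    exact TwoGen.of_equiv' e (Cfsg.Agent.S2407.result hq hK)
  · exact Suz.twoGen h
  · obtain ⟨K, _, _, m, hm, hK, e⟩ := h
    exact TwoGen.of_equiv' e (Cfsg.Agent.S2409.result hm hK)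
  · obtain ⟨K, _, _, m, hm, hK, e⟩ := h
    exact TwoGen.of_equiv' e (Cfsg.Agent.S2408.result hm hK)
  · exact R.tits h

theorem known (R : Rest.{u}) {G : Type u} [Group G] (h : Cfsg.IsKnownSimple' G) : TwoGen G := by
  rcases h with h | h | h | h | h | h | h | h | h | h
  · have h1 : Nat.card G ≠ 0 := Nat.Prime.ne_zero h
    have : Fact (Nat.card G).Prime := ⟨h⟩
    have : IsCyclic G := isCyclic_of_prime_card (p := Nat.card G) rfl
    exact TwoGen.of_isCyclic
  · obtain ⟨n, hn, e⟩ := h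
    exact (Alt.twoGen_fin hn).of_equiv' e
  · exact Psl.twoGen h
  · obtain ⟨F, _, _, m, hm, hF, e⟩ := h
    exact (R.psp F m hm hF).of_equiv' e
  · obtain ⟨F, _, _, n, q, hF, hn, h32, e⟩ := h
    exact (R.psu F q (isPrimePow_of_card_sq hF) hF n hn (fun h1 h2 => h32 ⟨h1, h2⟩)).of_equiv' e
  · obtain ⟨F, _, _, m, hm, hF, e⟩ := h
    exact (R.odd F hF m (by omega)).of_equiv' e
  · obtain ⟨F, _, _, m, hm, e⟩ := h
    exact (R.plus F m hm).of_equiv' e
  · obtain ⟨F, _, _, m, a, b, hm, hab, e⟩ := h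
    exact (R.minus F m hm a b hab).of_equiv' e
  · exact exc R h
  · exact R.spor h

end Cfsg.Agent.H440.TwoGen.Assemble
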