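import Cfsg.Agent.H440.TwoGen.Star
import Cfsg.Agent.Bimonster.Graph

/-!
# Groups generated by the nodes of `Y₅₅₃` (helper440); in particular the Monster
-/

set_option autoImplicit false

namespace Cfsg.Agent.H440.TwoGen.Monster

open Cfsg.Agent.Bimonster Equiv Equiv.Perm

variable {G : Type*} [Group G]

/-- the long path -/
def pl (i : ℕ) : ℕ := [5, 4, 3, 2, 1, 0, 6, 7, 8, 9, 10].getD i 0

theorem twoGen_of_nodes {t : ℕ → G} (ht : CoxRel 14 t) (hgen : Subgroup.closure (nodes 14 t) = ⊤) : TwoGen G := by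
  have hl : ∀ i < 11, pl i < 14 := by decide
  have hsq : ∀ i < 14, t i * t i = 1 := ht.sq
  obtain ⟨e1, e2, e3⟩ := Star.arm3 (hsq 11 (by norm_num)) (hsq 12 (by norm_num)) (hsq 13 (by norm_num))
    (ht.br 11 (by norm_num) 12 (by norm_num) (by decide)) (ht.br 12 (by norm_num) 13 (by norm_num) (by decide))
    (ht.cm 11 (by norm_num) 13 (by norm_num) (by decide))
  have hc0 : ∀ i < 14, adjB 11 i = false → adjB 12 i = false → adjB 13 i = false →
      (t 11 * t 12 * t 13) * t i = t i * (t 11 * t 12 * t 13) := by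
    intro i hi h1 h2 h3
    have k1 := ht.cm 11 (by norm_num) i hi h1
    have k2 := ht.cm 12 (by norm_num) i hi h2
    have k3 := ht.cm 13 (by norm_num) i hi h3
    rw [mul_assoc, k3, ← mul_assoc, mul_assoc (t 11), k2, ← mul_assoc, k1]
    simp only [mul_assoc]
  have hadj1 : ∀ i < 10, adjB (pl i) (pl (i + 1)) = true := by decide
  have hadj2 : ∀ i < 11, ∀ j < 11, i + 1 < j → adjB (pl i) (pl j) = false := by decide
  have hadj3 : ∀ i < 11, adjB (pl i) 12 = false := by decide
  have hbraid : t 11 * t (pl 5) * t 11 = t (pl 5) * t 11 * t (pl 5) :=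
    ht.br 11 (by norm_num) (pl 5) (hl 5 (by norm_num)) (by decide)
  have hs11 := hsq 11 (by norm_num)
  have hs5 := hsq (pl 5) (hl 5 (by norm_num))
  obtain ⟨X, Y, h1, h2, h3⟩ := Star.star (n := 11) (by norm_num) (fun i => t (pl i)) (fun i hi => hsq _ (hl i hi))
    (fun i hi => ht.br _ (hl i (by omega)) _ (hl (i + 1) hi) (hadj1 i (by omega)))
    (fun i j hij hj => ht.cm _ (hl i (by omega)) _ (hl j hj) (hadj2 i (by omega) j hj hij))
    (k := 5) (by norm_num) (by norm_num)
    (swap (⟨0, by norm_num⟩ : Fin (11 + 1)) ⟨1, by norm_num⟩ * finRotate (11 + 1)) (m := 11) (by decide) (by decide +kernel)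
    (fun S h1 h2 => Star.cz_even (by norm_num) S h1 h2)
    (t 11) (t 11 * t 12 * t 13) (t 12) (by rw [pow_two]; exact hsq 12 (by norm_num)) e1
    (fun i hi => ht.cm _ (hl i hi) 12 (by norm_num) (hadj3 i hi))
    (hc0 _ (hl 0 (by norm_num)) (by decide) (by decide) (by decide))
    (hc0 _ (hl 1 (by norm_num)) (by decide) (by decide) (by decide))
    (by
      have hm := Subgroup.mul_mem _ (Subgroup.mul_mem _ (Subgroup.inv_mem _ (Subgroup.subset_closure
        (Set.mem_insert (t 11 * t 12 * t 13) {t 12})))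
        (Subgroup.subset_closure (Set.mem_insert_of_mem _ (Set.mem_singleton (t 12)))))
        (Subgroup.subset_closure (Set.mem_insert (t 11 * t 12 * t 13) _))
      rwa [e2] at hm)
    (by
      calc (t 11 * t (pl 5)) ^ 3 = (t 11 * t (pl 5) * t 11) * (t (pl 5) * t 11 * t (pl 5)) := by
            simp only [pow_succ, pow_zero, one_mul, mul_assoc]
        _ = (t 11 * t (pl 5) * t 11) * (t 11 * t (pl 5) * t 11) := by rw [hbraid]
        _ = t 11 * t (pl 5) * (t 11 * t 11) * t (pl 5) * t 11 := by simp only [mul_assoc]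
        _ = t 11 * (t (pl 5) * t (pl 5)) * t 11 := by rw [hs11, mul_one]; simp only [mul_assoc]
        _ = 1 := by rw [hs5, mul_one, hs11])
    (ht.cm 11 (by norm_num) _ (hl 0 (by norm_num)) (by decide))
  refine ⟨X, Y, ?_⟩
  rw [eq_top_iff, ← hgen, Subgroup.closure_le]
  rintro _ ⟨i, hi, rfl⟩
  have hcase : ∀ i < 14, i = 11 ∨ i = 12 ∨ i = 13 ∨ ∃ j < 11, i = pl j := by decide
  rcases hcase i hi with rfl | rfl | rfl | ⟨j, hj, rfl⟩
  · rw [← e2]
    exact Subgroup.mul_mem _ (Subgroup.mul_mem _ (Subgroup.inv_mem _ h2) h3) h2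
  · exact h3
  · rw [← e3]
    exact Subgroup.mul_mem _ (Subgroup.mul_mem _ h2 h3) (Subgroup.inv_mem _ h2)
  · exact h1 j hj

end Cfsg.Agent.H440.TwoGen.Monster
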