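import Cfsg.Agent.H440.TwoGen.Path

/-!
# Star diagrams: two elements generating everything (helper440)
-/

set_option autoImplicit false

namespace Cfsg.Agent.H440.TwoGen.Star

open Equiv Equiv.Perm Subgroup
open Cfsg.Agent.CharactersDeep.SchurAltPerm Cfsg.Agent.H440.TwoGen.Alt Cfsg.Agent.H440.TwoGen.Path

variable {G : Type*} [Group G]

/-- the product of the first two adjacent transpositions is the three-cycle `x 0 1 2` -/
theorem x012 {n : ℕ} (hn : 2 ≤ n) :
    x (⟨0, by omega⟩ : Fin (n + 1)) ⟨1, by omega⟩ ⟨2, by omega⟩ =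
      swap (⟨0, by omega⟩ : Fin n).castSucc (⟨0, by omega⟩ : Fin n).succ *
        swap (⟨1, by omega⟩ : Fin n).castSucc (⟨1, by omega⟩ : Fin n).succ := by
  have e0 : (⟨0, by omega⟩ : Fin n).castSucc = (⟨0, by omega⟩ : Fin (n + 1)) := rfl
  have e1 : (⟨0, by omega⟩ : Fin n).succ = (⟨1, by omega⟩ : Fin (n + 1)) := rfl
  have e2 : (⟨1, by omega⟩ : Fin n).castSucc = (⟨1, by omega⟩ : Fin (n + 1)) := rfl
  have e3 : (⟨1, by omega⟩ : Fin n).succ = (⟨2, by omega⟩ : Fin (n + 1)) := rfl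
  rw [e0, e1, e2, e3, x_def]
  have h := conj_swap (swap (⟨0, by omega⟩ : Fin (n + 1)) ⟨1, by omega⟩) ⟨1, by omega⟩ ⟨2, by omega⟩
  rw [swap_apply_right, swap_apply_of_ne_of_ne (ne_mk _ _ (by omega)) (ne_mk _ _ (by omega)), swap_inv] at h
  rw [← h, mul_assoc, mul_assoc, swap_mul_self, mul_one]

/-- Star diagram: a path `p 0, …, p (n-1)` and two further elements `u`, `v`, where `v` commutes with the path,
`u` commutes with `p 0` and `p 1`, and `⟨u, v⟩` contains an involution `a` joined to `p k`, `k ≥ 2`. -/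
theorem star {n : ℕ} (hn : 4 ≤ n) (p : ℕ → G) (hsq : ∀ i < n, p i * p i = 1)
    (hbr : ∀ i, i + 1 < n → p i * p (i + 1) * p i = p (i + 1) * p i * p (i + 1))
    (hcm : ∀ i j, i + 1 < j → j < n → p i * p j = p j * p i)
    {k : ℕ} (hk2 : 2 ≤ k) (hkn : k < n) (c : Perm (Fin (n + 1))) {m : ℕ} (hm : Nat.Coprime m 2) (hc : c ^ m = 1)
    (hcz : ∀ S : Subgroup (Perm (Fin (n + 1))), c ∈ S →
      x (⟨0, by omega⟩ : Fin (n + 1)) ⟨1, by omega⟩ ⟨2, by omega⟩ ∈ S → alternatingGroup (Fin (n + 1)) ≤ S)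
    (a u v : G) (hv2 : v ^ 2 = 1) (hu4 : u ^ 4 = 1) (hv : ∀ i < n, p i * v = v * p i)
    (hu0 : u * p 0 = p 0 * u) (hu1 : u * p 1 = p 1 * u) (ha : a ∈ closure ({u, v} : Set G))
    (hak : (a * p k) ^ 3 = 1) (ha0 : a * p 0 = p 0 * a) :
    ∃ X Y : G, (∀ i < n, p i ∈ closure ({X, Y} : Set G)) ∧ u ∈ closure ({X, Y} : Set G) ∧
      v ∈ closure ({X, Y} : Set G) := by
  obtain ⟨φ, hφ⟩ := exists_hom n p hsq hbr hcm
  have hφ' : ∀ i (h : i < n), φ (swap (⟨i, h⟩ : Fin n).castSucc (⟨i, h⟩ : Fin n).succ) = p i :=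
    fun i h => hφ ⟨i, h⟩
  have hz : φ (x (⟨0, by omega⟩ : Fin (n + 1)) ⟨1, by omega⟩ ⟨2, by omega⟩) = p 0 * p 1 := by
    rw [x012 (by omega), map_mul, hφ' 0, hφ' 1]
  have hz3 : (x (⟨0, by omega⟩ : Fin (n + 1)) ⟨1, by omega⟩ ⟨2, by omega⟩) ^ 3 = 1 := by
    have h3 : IsThreeCycle (x (⟨0, by omega⟩ : Fin (n + 1)) ⟨1, by omega⟩ ⟨2, by omega⟩) :=
      x_isThreeCycle (ne_mk _ _ (by omega)) (ne_mk _ _ (by omega)) (ne_mk _ _ (by omega))
    rw [← h3.orderOf]
    exact pow_orderOf_eq_one _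
  have hne : ∀ {i j : Fin (n + 1)}, i.val ≠ j.val → i ≠ j := fun h h' => h (congrArg Fin.val h')
  have key' := key φ c (x (⟨0, by omega⟩ : Fin (n + 1)) ⟨1, by omega⟩ ⟨2, by omega⟩)
    (swap (⟨k, hkn⟩ : Fin n).castSucc (⟨k, hkn⟩ : Fin n).succ)
    (swap (⟨0, by omega⟩ : Fin n).castSucc (⟨0, by omega⟩ : Fin n).succ)
    hcz hm hc hz3 u v a
    (commute_range φ (fun i => by rw [hφ i]; exact hv i i.isLt) c)
    (by rw [hz, ← mul_assoc, hu0, mul_assoc, hu1, mul_assoc]) hv2 hu4 ha (swap_mul_self _ _)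
    (by
      have h := conj_swap (swap (⟨k, hkn⟩ : Fin n).castSucc (⟨k, hkn⟩ : Fin n).succ)
        (⟨0, by omega⟩ : Fin n).castSucc (⟨0, by omega⟩ : Fin n).succ
      have e0 : (swap (⟨k, hkn⟩ : Fin n).castSucc (⟨k, hkn⟩ : Fin n).succ) (⟨0, by omega⟩ : Fin n).castSucc =
          (⟨0, by omega⟩ : Fin n).castSucc :=
        swap_apply_of_ne_of_ne (hne (by simp only [Fin.val_castSucc, Fin.val_succ] <;> omega)) (hne (by simp only [Fin.val_castSucc, Fin.val_succ] <;> omega))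
      have e1 : (swap (⟨k, hkn⟩ : Fin n).castSucc (⟨k, hkn⟩ : Fin n).succ) (⟨0, by omega⟩ : Fin n).succ =
          (⟨0, by omega⟩ : Fin n).succ :=
        swap_apply_of_ne_of_ne (hne (by simp only [Fin.val_castSucc, Fin.val_succ] <;> omega)) (hne (by simp only [Fin.val_castSucc, Fin.val_succ] <;> omega))
      rw [e0, e1] at h
      exact mul_inv_eq_iff_eq_mul.1 h)
    (by
      rw [Perm.sign_mul, sign_swap (hne (by simp only [Fin.val_castSucc, Fin.val_succ] <;> omega)),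
        sign_swap (hne (by simp only [Fin.val_castSucc, Fin.val_succ] <;> omega))]
      decide)
    (sign_swap (hne (by simp only [Fin.val_castSucc, Fin.val_succ] <;> omega)))
    (by rw [hφ' k hkn]; exact hak)
    (by rw [hφ' 0]; exact ha0)
  refine ⟨_, _, fun i hi => ?_, key'.2.1, key'.2.2⟩
  have h1 : p i ∈ φ.range := ⟨_, hφ' i hi⟩
  exact key'.1 h1

/-- the cycle used in odd degree -/
theorem cz_odd {n : ℕ} (hn : 4 ≤ n) (S : Subgroup (Perm (Fin (n + 1)))) (h1 : finRotate (n + 1) ∈ S)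
    (h2 : x (⟨0, by omega⟩ : Fin (n + 1)) ⟨1, by omega⟩ ⟨2, by omega⟩ ∈ S) :
    alternatingGroup (Fin (n + 1)) ≤ S :=
  odd_case (by omega) S (finRotate (n + 1)) (fun i h => finRotate_of_lt (by omega)) h1 h2

/-- the cycle used in even degree -/
theorem cz_even {n : ℕ} (hn : 4 ≤ n) (S : Subgroup (Perm (Fin (n + 1))))
    (h1 : swap ⟨0, by omega⟩ ⟨1, by omega⟩ * finRotate (n + 1) ∈ S)
    (h2 : x (⟨0, by omega⟩ : Fin (n + 1)) ⟨1, by omega⟩ ⟨2, by omega⟩ ∈ S) :
    alternatingGroup (Fin (n + 1)) ≤ S := by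
  have hrot : ∀ i (h : i + 1 < n + 1), finRotate (n + 1) ⟨i, by omega⟩ = ⟨i + 1, h⟩ := by
    intro i h
    exact finRotate_of_lt (by omega)
  refine even_case (by omega) S _ ?_ ?_ h1 h2
  · rw [Perm.mul_apply, hrot 0 (by omega)]
    exact swap_apply_right _ _
  · intro i h hi
    rw [Perm.mul_apply, hrot i h, swap_apply_of_ne_of_ne (ne_mk _ _ (by omega)) (ne_mk _ _ (by omega))]

/-- For an arm `a, b, c` of length three: `u = a b c` has order dividing 4, `a = u⁻¹ b u`, `c = u b u⁻¹`. -/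
theorem arm3 {a b c : G} (ha : a * a = 1) (hb : b * b = 1) (hc : c * c = 1) (hab : a * b * a = b * a * b)
    (hbc : b * c * b = c * b * c) (hac : a * c = c * a) :
    (a * b * c) ^ 4 = 1 ∧ (a * b * c)⁻¹ * b * (a * b * c) = a ∧ (a * b * c) * b * (a * b * c)⁻¹ = c := by
  refine ⟨?_, ?_, ?_⟩
  · obtain ⟨φ, hφ⟩ := exists_hom 3 (fun i => if i = 0 then a else if i = 1 then b else c)
      (by intro i hi; interval_cases i <;> simpa)
      (by intro i hi; have : i < 2 := by omega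
          interval_cases i <;> simpa)
      (by intro i j hij hj; have : j = 2 := by omega
          subst this
          have : i = 0 := by omega
          subst this; simpa using hac)
    have h0 := hφ 0
    have h1 := hφ 1
    have h2 := hφ 2
    simp only [Fin.val_zero, Fin.val_one, Fin.val_two, if_true, one_ne_zero, if_false,
      OfNat.ofNat_ne_zero, OfNat.ofNat_ne_one] at h0 h1 h2
    rw [← h0, ← h1, ← h2, ← map_mul, ← map_mul, ← map_pow]
    have : (swap (0 : Fin 3).castSucc (0 : Fin 3).succ * swap (1 : Fin 3).castSucc (1 : Fin 3).succ *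
        swap (2 : Fin 3).castSucc (2 : Fin 3).succ) ^ 4 = 1 := by decide
    rw [this, map_one]
  · have h : a * b * c * a = b * (a * b * c) := by
      calc a * b * c * a = a * b * (c * a) := by rw [mul_assoc]
        _ = a * b * a * c := by rw [← hac]; simp only [mul_assoc]
        _ = b * (a * b * c) := by rw [hab]; simp only [mul_assoc]
    rw [mul_assoc, ← h, inv_mul_cancel_left]
  · have h : a * b * c * b = c * (a * b * c) := by
      calc a * b * c * b = a * (b * c * b) := by simp only [mul_assoc]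
        _ = (a * c) * b * c := by rw [hbc]; simp only [mul_assoc]
        _ = c * (a * b * c) := by rw [hac]; simp only [mul_assoc]
    rw [h, mul_inv_cancel_right]

end Cfsg.Agent.H440.TwoGen.Star
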